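import Cfsg.Agent.H924.Adj
set_option linter.all false

-- part: H924/CommForm
section
/-!
Aschbacher library (H924): imprimitive decompositions relative to a form.
-/

set_option autoImplicit false
set_option linter.style.haveILetI false
open Cfsg Cfsg.Geo Matrix

namespace Cfsg.Agent.H924

open Cfsg.Agent.H919 (HermForm)

variable {ι : Type} [Fintype ι] [DecidableEq ι] {F : Type*} [Field F]
variable {σ : F ≃+* F} {ε : F} {f : (ι → F) → (ι → F) → F}

/-- A complete system of non-zero orthogonal idempotents permuted transitively by `H`. -/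
structure OrthSystem (H : Subgroup (GL ι F)) (t : ℕ) (E : Fin t → Matrix ι ι F) : Prop where
  idem : ∀ i, E i * E i = E i
  ne_zero : ∀ i, E i ≠ 0
  orth : ∀ i j, i ≠ j → E i * E j = 0
  sum : ∑ i, E i = 1
  perm : ∀ h ∈ H, ∃ s : Equiv.Perm (Fin t), ∀ i, conjM h (E i) = E (s i)
  trans : ∀ i j, ∃ h ∈ H, conjM h (E i) = E j

lemma IdemSystem.orthSystem [Nonempty ι] {H : Subgroup (GL ι F)} (hirr : ActsIrreducibly (matrixSet H))
    {C : Subalgebra F (Matrix ι ι F)} (hN : Normalises H C) (hcomm : ∀ x ∈ C, ∀ y ∈ C, x * y = y * x) {t : ℕ}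
    {e : Fin t → Matrix ι ι F} (hE : IdemSystem C t e) : OrthSystem H t e where
  idem i := (hE.prim i).idem
  ne_zero i := (hE.prim i).ne_zero
  orth _ _ hij := hE.orth hcomm hij
  sum := hE.sum
  perm _ hh := hE.exists_perm hN hh
  trans := hE.transitive hirr hN hcomm

lemma OrthSystem.isMDecomposition {H : Subgroup (GL ι F)} {t : ℕ} {E : Fin t → Matrix ι ι F}
    (hE : OrthSystem H t E) (ht : 2 ≤ t) : ∃ m, IsMDecomposition m (fun i => fixSub (E i)) := by
  have hi0 : 0 < t := by omega
  let i0 : Fin t := ⟨0, hi0⟩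
  refine ⟨Module.finrank F (fixSub (E i0)), ht, ?_, ?_, ?_, ?_⟩
  · rw [Nat.pos_iff_ne_zero]
    intro h0
    rw [Submodule.finrank_eq_zero] at h0
    apply hE.ne_zero i0
    apply Matrix.toLin'.injective
    rw [map_zero]
    apply LinearMap.ext
    intro v
    have h1 : (E i0) *ᵥ v ∈ fixSub (E i0) := by rw [mem_fixSub, Matrix.mulVec_mulVec, hE.idem i0]
    rw [h0, Submodule.mem_bot] at h1
    simpa using h1
  · intro i
    obtain ⟨h, hh, hhi⟩ := hE.trans i0 i
    rw [← hhi, ← map_fixSub]
    have hinj : Function.Injective (Matrix.toLin' (h : Matrix ι ι F)) := by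
      intro a b hab
      have h1 := congrArg (fun w => ((h⁻¹ : GL ι F) : Matrix ι ι F) *ᵥ w) hab
      simpa only [Matrix.toLin'_apply, Matrix.mulVec_mulVec, inv_mul_coe, Matrix.one_mulVec] using h1
    exact (LinearEquiv.finrank_eq (Submodule.equivMapOfInjective _ hinj _)).symm
  · rw [iSupIndep_iff_finsetSum_eq_zero_imp_eq_zero]
    intro s v hv hsum i hi
    have h1 : (E i) *ᵥ (∑ j ∈ s, v j) = 0 := by rw [hsum, Matrix.mulVec_zero]
    rw [Matrix.mulVec_sum, Finset.sum_eq_single i] at h1
    · have := hv i hi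
      rw [mem_fixSub] at this
      rwa [this] at h1
    · intro j hj hji
      have := hv j hj
      rw [mem_fixSub] at this
      rw [← this, Matrix.mulVec_mulVec, hE.orth _ _ (Ne.symm hji), Matrix.zero_mulVec]
    · intro h; exact absurd hi h
  · rw [eq_top_iff]
    intro v _
    have h1 : v = ∑ i, (E i) *ᵥ v := by
      rw [← Matrix.sum_mulVec, hE.sum, Matrix.one_mulVec]
    rw [h1]
    apply Submodule.sum_mem
    intro i _
    apply Submodule.mem_iSup_of_mem i
    rw [mem_fixSub, Matrix.mulVec_mulVec, hE.idem i]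

lemma OrthSystem.le_decompositionStabilizer {H : Subgroup (GL ι F)} {t : ℕ} {E : Fin t → Matrix ι ι F}
    (hE : OrthSystem H t E) : H ≤ decompositionStabilizer (fun i => fixSub (E i)) := by
  intro h hh
  obtain ⟨s, hs⟩ := hE.perm h hh
  refine ⟨s, fun i => ?_⟩
  change (fixSub (E i)).map _ = fixSub (E (s i))
  rw [map_fixSub, hs]

lemma OrthSystem.exists_map_eq {H : Subgroup (GL ι F)} {t : ℕ} {E : Fin t → Matrix ι ι F}
    (hE : OrthSystem H t E) (i j : Fin t) :
    ∃ h ∈ H, (fixSub (E i)).map (Matrix.toLin' (h : Matrix ι ι F)) = fixSub (E j) := by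
  obtain ⟨h, hh, hij⟩ := hE.trans i j
  exact ⟨h, hh, by rw [map_fixSub, hij]⟩

/-- Self-adjoint idempotents give a non-degenerate decomposition. -/
lemma OrthSystem.isNondegenerateMDecomposition (hf : HermForm σ ε f) {H : Subgroup (GL ι F)} {t : ℕ}
    {E : Fin t → Matrix ι ι F} (hE : OrthSystem H t E) (ht : 2 ≤ t) (hadj : ∀ i, adjM σ f (E i) = E i) :
    ∃ m, IsNondegenerateMDecomposition f m (fun i => fixSub (E i)) := by
  obtain ⟨m, hm⟩ := hE.isMDecomposition ht
  refine ⟨m, hm, ?_, ?_⟩
  · intro i w hw hw0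
    rw [mem_fixSub] at hw
    obtain ⟨⟨x, hx⟩, ⟨y, hy⟩⟩ := hf.nondegenerate w hw0
    refine ⟨⟨E i *ᵥ x, ?_, ?_⟩, ⟨E i *ᵥ y, ?_, ?_⟩⟩
    · rw [mem_fixSub, Matrix.mulVec_mulVec, hE.idem]
    · rw [isAdj_adjM hf, hadj, hw]; exact hx
    · rw [mem_fixSub, Matrix.mulVec_mulVec, hE.idem]
    · have h1 := isAdj_adjM hf (E i) w y
      rw [hadj, hw] at h1
      rw [← h1]; exact hy
  · intro i j hij u hu v hv
    have hu' : E i *ᵥ u = u := hu
    have hv' : E j *ᵥ v = v := hv
    rw [← hu', isAdj_adjM hf, hadj, ← hv', Matrix.mulVec_mulVec, hE.orth i j hij, Matrix.zero_mulVec,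
      hf.zero_right]

/-- The adjoint of a primitive idempotent of an adjoint-closed commutative algebra is one. -/
lemma adjM_isPrimIdem (hf : HermForm σ ε f) {C : Subalgebra F (Matrix ι ι F)}
    (hcomm : ∀ x ∈ C, ∀ y ∈ C, x * y = y * x) (hC : IsAdjointClosedFor f C) {e : Matrix ι ι F}
    (he : IsPrimIdem C e) : IsPrimIdem C (adjM σ f e) := by
  refine ⟨adjM_mem hf hC he.mem, ?_, ?_, ?_⟩
  · intro h0
    apply he.ne_zero
    apply adjM_injective hf
    rw [h0, adjM_zero hf]
  · rw [← adjM_mul hf, he.idem]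
  · intro c hc
    have hc' := adjM_mem hf hC hc
    rcases he.prim _ hc' with h1 | ⟨d, hd, h1⟩
    · left
      have h2 := congrArg (adjM σ f) h1
      rw [adjM_mul hf, adjM_adjM hf, adjM_zero hf] at h2
      rw [hcomm _ (adjM_mem hf hC he.mem) _ hc, h2]
    · right
      refine ⟨adjM σ f d, adjM_mem hf hC hd, ?_⟩
      have h2 := congrArg (adjM σ f) h1
      rw [adjM_mul hf, adjM_mul hf, adjM_adjM hf] at h2
      rw [hcomm _ (Subalgebra.mul_mem _ (adjM_mem hf hC he.mem) hc) _ (adjM_mem hf hC hd),
        hcomm _ (adjM_mem hf hC he.mem) _ hc]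
      exact h2

/-- The adjoint induces an involution of the set of primitive idempotents. -/
lemma IdemSystem.exists_adj (hf : HermForm σ ε f) {C : Subalgebra F (Matrix ι ι F)}
    (hcomm : ∀ x ∈ C, ∀ y ∈ C, x * y = y * x) (hC : IsAdjointClosedFor f C) {t : ℕ}
    {e : Fin t → Matrix ι ι F} (hE : IdemSystem C t e) :
    ∃ τ : Fin t → Fin t, (∀ i, adjM σ f (e i) = e (τ i)) ∧ (∀ i, τ (τ i) = i) := by
  have h1 : ∀ i, ∃ j, e j = adjM σ f (e i) := fun i => hE.all _ (adjM_isPrimIdem hf hcomm hC (hE.prim i))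
  choose τ hτ using h1
  refine ⟨τ, fun i => (hτ i).symm, fun i => ?_⟩
  apply hE.inj
  rw [hτ, hτ, adjM_adjM hf]

/-- **Class C2 relative to a form.** A commutative adjoint-closed algebra normalised by an irreducible group of
isometries that is not a field yields an orthogonal decomposition or a pair of totally isotropic subspaces. -/
theorem imprimitive_of_comm [Nonempty ι] (hf : HermForm σ ε f) {H : Subgroup (GL ι F)}
    (hirr : ActsIrreducibly (matrixSet H))
    (hH : ∀ g ∈ H, ∀ u v, f ((g : Matrix ι ι F) *ᵥ u) ((g : Matrix ι ι F) *ᵥ v) = f u v)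
    {C : Subalgebra F (Matrix ι ι F)} (hN : Normalises H C) (hcomm : ∀ x ∈ C, ∀ y ∈ C, x * y = y * x)
    (hC : IsAdjointClosedFor f C) {t : ℕ} {e : Fin t → Matrix ι ι F} (hE : IdemSystem C t e) (ht : 2 ≤ t) :
    (∃ (s m : ℕ) (D : Fin s → Submodule F (ι → F)), IsNondegenerateMDecomposition f m D ∧
      H ≤ decompositionStabilizer D ∧
      (∀ i j, ∃ h ∈ H, (D i).map (Matrix.toLin' (h : Matrix ι ι F)) = D j)) ∨
    (∃ (m : ℕ) (D : Fin 2 → Submodule F (ι → F)), IsMDecomposition m D ∧
      (∀ i, IsTotallySingularFor f (D i)) ∧ H ≤ decompositionStabilizer D) := by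
  classical
  obtain ⟨τ, hτ, hττ⟩ := hE.exists_adj hf hcomm hC
  have hO := hE.orthSystem hirr hN hcomm
  have hcommτ : ∀ h ∈ H, ∀ i j, conjM h (e i) = e j → conjM h (e (τ i)) = e (τ j) := by
    intro h hh i j hij
    rw [← hτ, ← adjM_conjM hf (hH h hh), hij, hτ]
  by_cases hfix : ∃ i, τ i = i
  · -- all idempotents are self-adjoint
    obtain ⟨i0, hi0⟩ := hfix
    have hall : ∀ i, τ i = i := by
      intro i
      obtain ⟨h, hh, hi⟩ := hO.trans i0 i
      have := hcommτ h hh i0 i hi
      rw [hi0, hi] at this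
      exact (hE.inj this).symm
    left
    obtain ⟨m, hm⟩ := hO.isNondegenerateMDecomposition hf ht (fun i => by rw [hτ, hall])
    exact ⟨t, m, _, hm, hO.le_decompositionStabilizer, hO.exists_map_eq⟩
  · push Not at hfix
    by_cases ht2 : t = 2
    · subst ht2
      right
      obtain ⟨m, hm⟩ := hO.isMDecomposition ht
      refine ⟨m, _, hm, ?_, hO.le_decompositionStabilizer⟩
      intro i u hu v hv
      have hu' : e i *ᵥ u = u := hu
      have hv' : e i *ᵥ v = v := hv
      rw [← hu', isAdj_adjM hf, hτ, ← hv', Matrix.mulVec_mulVec, hO.orth _ _ (hfix i), Matrix.zero_mulVec,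
        hf.zero_right]
    · left
      -- the pair sums
      let p : Fin t → Matrix ι ι F := fun i => e i + e (τ i)
      have hmul : ∀ i j, e j * p i = if (j = i ∨ j = τ i) then e j else 0 := by
        intro i j
        simp only [p, mul_add]
        by_cases h1 : j = i
        · subst h1
          rw [if_pos (Or.inl rfl), hO.idem, hO.orth _ _ (Ne.symm (hfix j)), add_zero]
        · by_cases h2 : j = τ i
          · rw [if_pos (Or.inr h2), hO.orth _ _ h1, ← h2, hO.idem, zero_add]
          · rw [if_neg (by tauto), hO.orth _ _ h1, hO.orth _ _ h2, add_zero]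
      have hp_eq : ∀ i j, p i = p j → (j = i ∨ j = τ i) := by
        intro i j hij
        by_contra hcon
        have h1 := hmul i j
        rw [if_neg hcon, hij, hmul j j, if_pos (Or.inl rfl)] at h1
        exact hO.ne_zero j h1
      have hpτ : ∀ i, p (τ i) = p i := by
        intro i
        simp only [p, hττ]
        exact add_comm _ _
      have hp_iff : ∀ i j, p i = p j ↔ (j = i ∨ j = τ i) := by
        intro i j
        refine ⟨hp_eq i j, ?_⟩
        rintro (rfl | rfl)
        · rfl
        · exact (hpτ i).symm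
      let T : Finset (Matrix ι ι F) := Finset.univ.image p
      have hTmem : ∀ X, X ∈ T ↔ ∃ i, p i = X := by
        intro X; simp [T]
      let s := T.card
      let k : T ≃ Fin s := T.equivFin
      let E : Fin s → Matrix ι ι F := fun a => ((k.symm a : T) : Matrix ι ι F)
      have hEp : ∀ a, ∃ i, p i = E a := fun a => (hTmem _).mp (k.symm a).2
      have hpE : ∀ i, ∃ a, E a = p i := by
        intro i
        refine ⟨k ⟨p i, (hTmem _).mpr ⟨i, rfl⟩⟩, ?_⟩
        simp [E]
      have hEinj : Function.Injective E := by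
        intro a b hab
        exact k.symm.injective (Subtype.ext hab)
      have hpidem : ∀ i, p i * p i = p i := by
        intro i
        conv_lhs => lhs; simp only [p]
        rw [add_mul, hmul, hmul, if_pos (Or.inl rfl), if_pos (Or.inr rfl)]
      have hp0 : ∀ i, p i ≠ 0 := by
        intro i h0
        have := hmul i i
        rw [if_pos (Or.inl rfl), h0, mul_zero] at this
        exact hO.ne_zero i this.symm
      have hporth : ∀ i j, p i ≠ p j → p i * p j = 0 := by
        intro i j hij
        have h1 : ¬ (j = i ∨ j = τ i) := fun h => hij ((hp_iff i j).mpr h)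
        have h2 : ¬ (i = j ∨ i = τ j) := fun h => hij ((hp_iff j i).mpr h).symm
        have h3 : ¬ (τ i = j ∨ τ i = τ j) := by
          rintro (h | h)
          · exact h1 (Or.inr h.symm)
          · have := congrArg τ h
            rw [hττ, hττ] at this
            exact h1 (Or.inl this.symm)
        conv_lhs => lhs; simp only [p]
        rw [add_mul, hmul, hmul, if_neg h2, if_neg h3, add_zero]
      have hsum : ∑ a, E a = 1 := by
        have h1 : ∑ a, E a = ∑ X ∈ T, X := by
          rw [← Finset.sum_coe_sort T]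
          exact Equiv.sum_comp k.symm (fun X : T => (X : Matrix ι ι F))
        have h2 : ∑ X ∈ T, X = ∑ X ∈ T, ∑ i ∈ Finset.univ.filter (fun i => p i = X), e i := by
          apply Finset.sum_congr rfl
          intro X hX
          obtain ⟨i, rfl⟩ := (hTmem X).mp hX
          have h3 : Finset.univ.filter (fun j => p j = p i) = {i, τ i} := by
            ext j
            simp only [Finset.mem_filter, Finset.mem_univ, true_and, Finset.mem_insert,
              Finset.mem_singleton]
            rw [eq_comm, hp_iff]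
          rw [h3, Finset.sum_pair (Ne.symm (hfix i))]
        rw [h1, h2, Finset.sum_fiberwise_of_maps_to (fun i _ => (hTmem _).mpr ⟨i, rfl⟩)]
        exact hO.sum
      have hconjp : ∀ h ∈ H, ∀ i j, conjM h (e i) = e j → conjM h (p i) = p j := by
        intro h hh i j hij
        simp only [p, map_add]
        rw [hij, hcommτ h hh i j hij]
      have hOE : OrthSystem H s E := by
        refine ⟨?_, ?_, ?_, hsum, ?_, ?_⟩
        · intro a
          obtain ⟨i, hi⟩ := hEp a
          rw [← hi, hpidem]
        · intro a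
          obtain ⟨i, hi⟩ := hEp a
          rw [← hi]; exact hp0 i
        · intro a b hab
          obtain ⟨i, hi⟩ := hEp a
          obtain ⟨j, hj⟩ := hEp b
          rw [← hi, ← hj]
          apply hporth
          rw [hi, hj]
          exact fun h => hab (hEinj h)
        · intro h hh
          obtain ⟨s', hs'⟩ := hO.perm h hh
          have hex : ∀ a, ∃ b, E b = conjM h (E a) := by
            intro a
            obtain ⟨i, hi⟩ := hEp a
            obtain ⟨b, hb⟩ := hpE (s' i)
            refine ⟨b, ?_⟩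
            rw [hb, ← hi]
            exact (hconjp h hh i (s' i) (hs' i)).symm
          choose w hw using hex
          have hwinj : Function.Injective w := by
            intro a b hab
            apply hEinj
            apply (conjM h).injective
            rw [← hw, ← hw, hab]
          exact ⟨Equiv.ofBijective w (Finite.injective_iff_bijective.mp hwinj), fun i => (hw i).symm⟩
        · intro a b
          obtain ⟨i, hi⟩ := hEp a
          obtain ⟨j, hj⟩ := hEp b
          obtain ⟨h, hh, hij⟩ := hO.trans i j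
          refine ⟨h, hh, ?_⟩
          rw [← hi, ← hj]
          exact hconjp h hh i j hij
      have hs2 : 2 ≤ s := by
        -- otherwise t ≤ 2
        by_contra hlt
        push Not at hlt
        have ht3 : 2 < t := by omega
        have hcard1 : T.card ≤ 1 := by change s ≤ 1; omega
        let i0 : Fin t := ⟨0, by omega⟩
        obtain ⟨j, hj1, hj2⟩ : ∃ j : Fin t, j ≠ i0 ∧ j ≠ τ i0 := by
          have hc : ({i0, τ i0} : Finset (Fin t)).card < (Finset.univ : Finset (Fin t)).card := by
            calc ({i0, τ i0} : Finset (Fin t)).card ≤ 2 := Finset.card_le_two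
              _ < t := ht3
              _ = _ := by simp
          obtain ⟨j, _, hj⟩ := Finset.exists_mem_notMem_of_card_lt_card hc
          refine ⟨j, ?_, ?_⟩
          · rintro rfl; exact hj (by simp)
          · rintro rfl; exact hj (by simp)
        have h1 : p i0 = p j := Finset.card_le_one.mp hcard1 _ ((hTmem _).mpr ⟨i0, rfl⟩) _ ((hTmem _).mpr ⟨j, rfl⟩)
        rcases (hp_iff i0 j).mp h1 with h | h
        · exact hj1 h
        · exact hj2 h
      have hself : ∀ a, adjM σ f (E a) = E a := by
        intro a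
        obtain ⟨i, hi⟩ := hEp a
        rw [← hi]
        simp only [p]
        rw [adjM_add hf, hτ, hτ, hττ, add_comm]
      obtain ⟨m, hm⟩ := hOE.isNondegenerateMDecomposition hf hs2 hself
      exact ⟨s, m, _, hm, hOE.le_decompositionStabilizer, hOE.exists_map_eq⟩

end Cfsg.Agent.H924
end

-- part: H924/POne
section
/-!
Aschbacher library (H924), part P1: summary for commutative algebras normalised by an irreducible group
(classes C2 and C3), with and without a form.
-/

set_option autoImplicit false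
set_option linter.style.haveILetI false
open Cfsg Cfsg.Geo Matrix

namespace Cfsg.Agent.H924

open Cfsg.Agent.H919 (HermForm)

variable {ι : Type} [Fintype ι] [DecidableEq ι] {F : Type*} [Field F]
variable {σ : F ≃+* F} {ε : F} {f : (ι → F) → (ι → F) → F}

/-- A commutative algebra with a single primitive idempotent is a field. -/
lemma field_of_one {C : Subalgebra F (Matrix ι ι F)} {e : Fin 1 → Matrix ι ι F} (hE : IdemSystem C 1 e) :
    ∀ x ∈ C, x ≠ 0 → ∃ y ∈ C, x * y = 1 := by
  have he : e 0 = 1 := by simpa using hE.sum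
  intro x hx hx0
  rcases (hE.prim 0).prim x hx with h | ⟨y, hy, h⟩
  · rw [he, one_mul] at h
    exact absurd h hx0
  · rw [he, one_mul] at h
    exact ⟨y, hy, h⟩

/-- **P1, existence of a subfield of prime degree.** -/
theorem exists_prime_subfield [Nonempty ι] [Finite F] {H : Subgroup (GL ι F)}
    {C : Subalgebra F (Matrix ι ι F)} (hN : Normalises H C) (hcomm : ∀ x ∈ C, ∀ y ∈ C, x * y = y * x)
    (hinv : ∀ x ∈ C, x ≠ 0 → ∃ y ∈ C, x * y = 1) (r : ℕ) (hr : r.Prime) (hdvd : r ∣ Module.finrank F C) :
    ∃ K : Subalgebra F (Matrix ι ι F), K ≤ C ∧ IsFieldSubalgebra r K ∧ H ≤ subalgebraNormalizer K ∧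
      (∀ (σ : F ≃+* F) (ε : F) (f : (ι → F) → (ι → F) → F), HermForm σ ε f → IsAdjointClosedFor f C →
        IsAdjointClosedFor f K) := by
  obtain ⟨K, hKC, hK, hmem⟩ := exists_subfield hcomm hinv r hdvd hr.ne_zero
  refine ⟨K, hKC, hK, ?_, ?_⟩
  · rw [← normalises_iff_le]
    intro h hh c hc
    obtain ⟨h1, h2⟩ := (hmem c).mp hc
    apply (hmem _).mpr
    refine ⟨hN h hh c h1, ?_⟩
    change (conjM h c) ^ _ = conjM h c
    rw [conjM_pow, h2]
  · intro σ ε f hf hC
    apply isAdjointClosedFor_of hf
    intro c hc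
    obtain ⟨h1, h2⟩ := (hmem c).mp hc
    apply (hmem _).mpr
    refine ⟨adjM_mem hf hC h1, ?_⟩
    rw [← adjM_pow hf, h2]

/-- **P1 without a form.** -/
theorem comm_cases [Nonempty ι] [Finite F] {H : Subgroup (GL ι F)} (hirr : ActsIrreducibly (matrixSet H))
    {C : Subalgebra F (Matrix ι ι F)} (hN : H ≤ subalgebraNormalizer C)
    (hcomm : ∀ x ∈ C, ∀ y ∈ C, x * y = y * x) :
    (∃ (t m : ℕ) (D : Fin t → Submodule F (ι → F)), IsMDecomposition m D ∧ H ≤ decompositionStabilizer D ∧
      (∀ i j, ∃ h ∈ H, (D i).map (Matrix.toLin' (h : Matrix ι ι F)) = D j)) ∨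
    (∃ (r : ℕ) (K : Subalgebra F (Matrix ι ι F)), r.Prime ∧ K ≤ C ∧ IsFieldSubalgebra r K ∧
      H ≤ subalgebraNormalizer K) ∨ C = ⊥ := by
  have hN' := normalises_iff_le.mpr hN
  obtain ⟨t, e, h1, h2, h3, h4⟩ := exists_idems hirr hN' hcomm
  have hE : IdemSystem C t e := ⟨h1, h2, h3, h4⟩
  rcases Nat.lt_or_ge t 2 with ht | ht
  · -- t = 1
    have ht1 : t = 1 := by
      rcases Nat.eq_zero_or_pos t with h | h
      · subst h
        exfalso
        have : (0 : Matrix ι ι F) = 1 := by simpa using h3
        exact zero_ne_one this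
      · omega
    subst ht1
    have hinv := field_of_one hE
    right
    by_cases hd : Module.finrank F C = 1
    · right
      exact Subalgebra.finrank_eq_one_iff.mp hd
    · left
      obtain ⟨r, hr, hrd⟩ := Nat.exists_prime_and_dvd hd
      obtain ⟨K, hKC, hK, hHK, _⟩ := exists_prime_subfield hN' hcomm hinv r hr hrd
      exact ⟨r, K, hr, hKC, hK, hHK⟩
  · left
    have hO := hE.orthSystem hirr hN' hcomm
    obtain ⟨m, hm⟩ := hO.isMDecomposition ht
    exact ⟨t, m, _, hm, hO.le_decompositionStabilizer, hO.exists_map_eq⟩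

/-- **P1 with a form.** -/
theorem comm_cases_form [Nonempty ι] [Finite F] (hf : HermForm σ ε f) {H : Subgroup (GL ι F)}
    (hirr : ActsIrreducibly (matrixSet H))
    (hH : ∀ g ∈ H, ∀ u v, f ((g : Matrix ι ι F) *ᵥ u) ((g : Matrix ι ι F) *ᵥ v) = f u v)
    {C : Subalgebra F (Matrix ι ι F)} (hN : H ≤ subalgebraNormalizer C)
    (hcomm : ∀ x ∈ C, ∀ y ∈ C, x * y = y * x) (hC : IsAdjointClosedFor f C) :
    (∃ (t m : ℕ) (D : Fin t → Submodule F (ι → F)), IsNondegenerateMDecomposition f m D ∧
      H ≤ decompositionStabilizer D ∧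
      (∀ i j, ∃ h ∈ H, (D i).map (Matrix.toLin' (h : Matrix ι ι F)) = D j)) ∨
    (∃ (m : ℕ) (D : Fin 2 → Submodule F (ι → F)), IsMDecomposition m D ∧
      (∀ i, IsTotallySingularFor f (D i)) ∧ H ≤ decompositionStabilizer D) ∨
    (∃ (r : ℕ) (K : Subalgebra F (Matrix ι ι F)), r.Prime ∧ K ≤ C ∧ IsFieldSubalgebra r K ∧
      IsAdjointClosedFor f K ∧ H ≤ subalgebraNormalizer K) ∨ C = ⊥ := by
  have hN' := normalises_iff_le.mpr hN
  obtain ⟨t, e, h1, h2, h3, h4⟩ := exists_idems hirr hN' hcomm
  have hE : IdemSystem C t e := ⟨h1, h2, h3, h4⟩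
  rcases Nat.lt_or_ge t 2 with ht | ht
  · have ht1 : t = 1 := by
      rcases Nat.eq_zero_or_pos t with h | h
      · subst h
        exfalso
        have : (0 : Matrix ι ι F) = 1 := by simpa using h3
        exact zero_ne_one this
      · omega
    subst ht1
    have hinv := field_of_one hE
    right; right
    by_cases hd : Module.finrank F C = 1
    · right
      exact Subalgebra.finrank_eq_one_iff.mp hd
    · left
      obtain ⟨r, hr, hrd⟩ := Nat.exists_prime_and_dvd hd
      obtain ⟨K, hKC, hK, hHK, hKf⟩ := exists_prime_subfield hN' hcomm hinv r hr hrd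
      exact ⟨r, K, hr, hKC, hK, hKf σ ε f hf hC, hHK⟩
  · rcases imprimitive_of_comm hf hirr hH hN' hcomm hC hE ht with h | h
    · left; exact h
    · right; left; exact h

end Cfsg.Agent.H924
end
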