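import Cfsg.Agent.H924.SympRed
import Cfsg.Agent.H912.Core4
set_option linter.all false

/-!
Aschbacher library (H924), bilinear case: an adjoint-closed field of prime degree is self-adjoint or quadratic;
for a self-adjoint field and an alternating form, `f (k v) v = 0`.
-/

set_option autoImplicit false
set_option linter.style.haveILetI false
open Cfsg Cfsg.Geo Matrix

namespace Cfsg.Agent.H924

open Cfsg.Agent.H919 (HermForm)

variable {ι : Type} [Fintype ι] [DecidableEq ι] {F : Type*} [Field F]
variable {f : (ι → F) → (ι → F) → F}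

/-- In a field of prime degree `r` over `F`, an element satisfying a monic quadratic equation over `F` and not in `F`
forces `r = 2`. -/
lemma degree_two_of_quadratic {F K : Type*} [Field F] [Field K] [Algebra F K] [Module.Finite F K]
    {r : ℕ} (hr : r.Prime) (hdim : Module.finrank F K = r) {x : K} {a b : F}
    (hx : x * x = algebraMap F K a * x + algebraMap F K b) (hnot : ∀ c : F, x ≠ algebraMap F K c) : r = 2 := by
  have hint : IsIntegral F x := IsIntegral.of_finite F x
  have hdvd : (minpoly F x).natDegree ∣ Module.finrank F K := minpoly.degree_dvd hint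
  rw [hdim] at hdvd
  have hne1 : (minpoly F x).natDegree ≠ 1 := by
    intro h1
    obtain ⟨c, hc⟩ := minpoly.mem_range_of_degree_eq_one F x (by
      rw [Polynomial.degree_eq_natDegree (minpoly.ne_zero hint), h1]; rfl)
    exact hnot c hc.symm
  have hle : (minpoly F x).natDegree ≤ 2 := by
    have hp : (Polynomial.X ^ 2 - Polynomial.C a * Polynomial.X - Polynomial.C b : Polynomial F).natDegree = 2 := by
      compute_degree!
    have hmonic : (Polynomial.X ^ 2 - Polynomial.C a * Polynomial.X - Polynomial.C b : Polynomial F) ≠ 0 := by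
      intro h0
      rw [h0] at hp
      simp at hp
    rw [← hp]
    apply Polynomial.natDegree_le_of_dvd _ hmonic
    apply minpoly.dvd
    simp only [map_sub, map_mul, map_pow, Polynomial.aeval_X, Polynomial.aeval_C]
    rw [pow_two, hx]
    ring
  have h2 : (minpoly F x).natDegree = r := (Nat.dvd_prime hr |>.mp hdvd).resolve_left hne1
  have := hr.two_le
  omega

/-- **Class C3, bilinear case.** An adjoint-closed field of prime degree `r` is self-adjoint, or `r = 2`. -/
theorem selfAdjoint_or_two [Nonempty ι] {ε : F} (hf : HermForm (RingEquiv.refl F) ε f) {r : ℕ} (hr : r.Prime)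
    {K : Subalgebra F (Matrix ι ι F)} (hK : IsFieldSubalgebra r K) (hadj : IsAdjointClosedFor f K) :
    IsSelfAdjointFor f K ∨ r = 2 := by
  classical
  by_cases hself : IsSelfAdjointFor f K
  · exact Or.inl hself
  right
  -- the subalgebra of self-adjoint elements
  let S : Subalgebra F (Matrix ι ι F) :=
    { carrier := {x | x ∈ K ∧ adjM (RingEquiv.refl F) f x = x}
      mul_mem' := fun {a b} ha hb => ⟨Subalgebra.mul_mem _ ha.1 hb.1, by
        rw [adjM_mul hf, ha.2, hb.2, hK.comm _ hb.1 _ ha.1]⟩
      add_mem' := fun {a b} ha hb => ⟨Subalgebra.add_mem _ ha.1 hb.1, by rw [adjM_add hf, ha.2, hb.2]⟩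
      algebraMap_mem' := fun c => ⟨Subalgebra.algebraMap_mem _ _, by
        rw [Algebra.algebraMap_eq_smul_one, adjM_smul hf, adjM_one hf]; rfl⟩ }
  have hSK : S ≤ K := fun x hx => hx.1
  have hSfield : IsFieldSubalgebra (Module.finrank F S) S := by
    refine ⟨fun x hx y hy => hK.comm x hx.1 y hy.1, ?_, rfl⟩
    intro x hx hx0
    obtain ⟨y, hy, hxy⟩ := hK.inv x hx.1 hx0
    refine ⟨y, ⟨hy, ?_⟩, hxy⟩
    -- y* is also the inverse of x
    have h1 := congrArg (adjM (RingEquiv.refl F) f) hxy
    rw [adjM_mul hf, hx.2, adjM_one hf] at h1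
    calc adjM (RingEquiv.refl F) f y = adjM (RingEquiv.refl F) f y * (x * y) := by rw [hxy, mul_one]
      _ = (adjM (RingEquiv.refl F) f y * x) * y := by rw [mul_assoc]
      _ = y := by rw [h1, one_mul]
  let _ : Field K := (H912.isField_of_fieldSub hK).toField
  have hdim : Module.finrank F K = r := hK.finrank_eq
  -- pick a non-self-adjoint element
  unfold IsSelfAdjointFor at hself
  push Not at hself
  obtain ⟨ω, hω, u0, v0, huv⟩ := hself
  have hω' : adjM (RingEquiv.refl F) f ω ∈ K := adjM_mem hf hadj hω
  have hne : adjM (RingEquiv.refl F) f ω ≠ ω := by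
    intro h
    apply huv
    have := isAdj_adjM hf ω u0 v0
    rwa [h] at this
  -- S = ⊥
  have hSbot : S = ⊥ := by
    -- S' = S inside K
    let S' : Subalgebra F K := S.comap K.val
    have hS'map : S'.map K.val = S := by
      ext x
      constructor
      · rintro ⟨y, hy, rfl⟩
        exact hy
      · intro hx
        exact ⟨⟨x, hSK hx⟩, hx, rfl⟩
    have hfin1 : Module.finrank F S = Module.finrank F S' := by
      rw [← hS'map]
      exact (LinearEquiv.finrank_eq (S'.equivMapOfInjective K.val Subtype.val_injective).toLinearEquiv).symm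
    let L : IntermediateField F K := S'.toIntermediateField (fun x hx => by
      change (K.val x⁻¹) ∈ S
      by_cases hx0 : x = 0
      · rw [hx0, _root_.inv_zero, map_zero]; exact Subalgebra.zero_mem _
      · have hxS : (x : Matrix ι ι F) ∈ S := hx
        obtain ⟨y, hy, hxy⟩ := hSfield.inv x hxS (fun h => hx0 (Subtype.ext h))
        have : K.val x⁻¹ = y := by
          have h1 : x * ⟨y, hSK hy⟩ = 1 := Subtype.ext hxy
          have h2 : x⁻¹ = ⟨y, hSK hy⟩ := by
            rw [inv_eq_of_mul_eq_one_right h1]
          rw [h2]; rfl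
        rw [this]; exact hy)
    have hL : Module.finrank F L = Module.finrank F S := by
      rw [hfin1]; rfl
    have hdvd : Module.finrank F S ∣ r := by
      rw [← hL, ← hdim]
      exact ⟨_, (Module.finrank_mul_finrank F L K).symm⟩
    rcases (Nat.dvd_prime hr).mp hdvd with h1 | h1
    · exact Subalgebra.finrank_eq_one_iff.mp h1
    · exfalso
      apply hne
      have hSK' : S = K := by
        apply Subalgebra.eq_of_le_of_finrank_eq hSK
        rw [h1, hdim]
      have : ω ∈ S := by rw [hSK']; exact hω
      exact this.2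
  -- trace and norm of ω are scalars
  have h1 : ω + adjM (RingEquiv.refl F) f ω ∈ S := ⟨Subalgebra.add_mem _ hω hω', by
    rw [adjM_add hf, adjM_adjM hf, add_comm]⟩
  have h2 : ω * adjM (RingEquiv.refl F) f ω ∈ S := ⟨Subalgebra.mul_mem _ hω hω', by
    rw [adjM_mul hf, adjM_adjM hf]⟩
  rw [hSbot, Algebra.mem_bot] at h1 h2
  obtain ⟨a, ha⟩ := h1
  obtain ⟨b, hb⟩ := h2
  refine degree_two_of_quadratic (F := F) (K := K) hr hdim (x := ⟨ω, hω⟩) (a := a) (b := -b) ?_ ?_
  · apply Subtype.ext
    change ω * ω = algebraMap F (Matrix ι ι F) a * ω + algebraMap F (Matrix ι ι F) (-b)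
    rw [map_neg, ha, hb, add_mul, hK.comm _ hω' _ hω]
    abel
  · intro c hc
    apply hne
    have hc' : ω = algebraMap F (Matrix ι ι F) c := congrArg Subtype.val hc
    rw [hc', Algebra.algebraMap_eq_smul_one, adjM_smul hf, adjM_one hf]
    rfl

/-- For an alternating form, a self-adjoint field over a finite field satisfies `f (k v) v = 0`. -/
theorem form_self_zero [Finite F] (hf : IsSymplecticForm f) {r : ℕ}
    {K : Subalgebra F (Matrix ι ι F)} (hK : IsFieldSubalgebra r K) (hself : IsSelfAdjointFor f K) :
    ∀ k ∈ K, ∀ v, f (k *ᵥ v) v = 0 := by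
  intro k hk v
  by_cases h2 : (2 : F) = 0
  · -- k is a square in K
    rcases isEmpty_or_nonempty ι with he | hne
    · have : v = 0 := Subsingleton.elim _ _
      rw [this, Matrix.mulVec_zero]
      exact hf.alternating 0
    let _ : Field K := (H912.isField_of_fieldSub hK).toField
    haveI : Finite K := Module.finite_of_finite F
    have hchar : ringChar K = 2 := by
      have h3 : ((2 : ℕ) : K) = 0 := by
        have : ((2 : ℕ) : K) = algebraMap F K ((2 : ℕ) : F) := (map_natCast (algebraMap F K) 2).symm
        rw [this, Nat.cast_ofNat, h2, map_zero]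
      have h4 : ringChar K ∣ 2 := ringChar.dvd h3
      rcases (Nat.dvd_prime Nat.prime_two).mp h4 with h5 | h5
      · exact absurd h5 (CharP.ringChar_ne_one)
      · exact h5
    obtain ⟨l, hl⟩ := FiniteField.isSquare_of_char_two hchar (⟨k, hk⟩ : K)
    have hkl : k = (l : Matrix ι ι F) * (l : Matrix ι ι F) := congrArg Subtype.val hl
    rw [hkl, ← Matrix.mulVec_mulVec, hself _ l.2]
    exact hf.alternating _
  · have h3 := hself k hk v v
    have h4 := hf.skew (k *ᵥ v) v
    have h5 : f (k *ᵥ v) v + f (k *ᵥ v) v = 0 := by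
      nth_rewrite 2 [h4]
      rw [← h3]
      exact add_neg_cancel _
    have h6 : (2 : F) * f (k *ᵥ v) v = 0 := by rw [two_mul]; exact h5
    exact (mul_eq_zero.mp h6).resolve_left h2

end Cfsg.Agent.H924
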