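import Cfsg.Agent.H924.SympRed
import Cfsg.Agent.H912.TensForm
set_option linter.all false

/-!
Aschbacher library (H924), bilinear case: a tensor decomposition with a two-dimensional symmetric factor in odd
characteristic reduces to the classes C2 and C3.
-/

set_option autoImplicit false
set_option linter.style.haveILetI false
open Cfsg Cfsg.Geo Matrix
open scoped Kronecker

namespace Cfsg.Agent.H924

open Cfsg.Agent.H919 (HermForm)
open Cfsg.Agent.H912 (tens)

variable {ι : Type} [Fintype ι] [DecidableEq ι] {F : Type*} [Field F]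
variable {σ : F ≃+* F} {ε : F} {f : (ι → F) → (ι → F) → F}

lemma mem_tensorProductSubgroup_iff {n₁ n₂ : ℕ} {e : ι ≃ Fin n₁ × Fin n₂} {P g : GL ι F} :
    g ∈ tensorProductSubgroup n₁ n₂ e P ↔ ∃ (a : GL (Fin n₁) F) (b : GL (Fin n₂) F),
      (g : Matrix ι ι F) = tens e P (a : Matrix _ _ F) (b : Matrix _ _ F) := by
  unfold tensorProductSubgroup
  rw [Subgroup.mem_map]
  constructor
  · rintro ⟨x, hx, rfl⟩
    rw [Subgroup.mem_map] at hx
    obtain ⟨y, ⟨a, b, hy⟩, rfl⟩ := hx
    refine ⟨a, b, ?_⟩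
    change ((P * glReindex e.symm y * P⁻¹ : GL ι F) : Matrix ι ι F) = _
    rw [Units.val_mul, Units.val_mul]
    unfold H912.tens
    rw [← hy]
    rfl
  · rintro ⟨a, b, h⟩
    -- the Kronecker product as an invertible matrix
    let y : GL (Fin n₁ × Fin n₂) F :=
      ⟨(a : Matrix _ _ F) ⊗ₖ (b : Matrix _ _ F), ((a⁻¹ : GL (Fin n₁) F) : Matrix _ _ F) ⊗ₖ
        ((b⁻¹ : GL (Fin n₂) F) : Matrix _ _ F), by
        rw [← Matrix.mul_kronecker_mul, mul_inv_coe, mul_inv_coe, Matrix.one_kronecker_one], by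
        rw [← Matrix.mul_kronecker_mul, inv_mul_coe, inv_mul_coe, Matrix.one_kronecker_one]⟩
    refine ⟨glReindex e.symm y, ?_, ?_⟩
    · rw [Subgroup.mem_map]
      exact ⟨y, ⟨a, b, rfl⟩, rfl⟩
    · apply Units.ext
      change ((P * glReindex e.symm y * P⁻¹ : GL ι F) : Matrix ι ι F) = _
      rw [Units.val_mul, Units.val_mul, h]
      rfl

/-- The adjoint of a Kronecker product for a tensor product of bilinear forms. -/
lemma isAdj_tens (hf : HermForm (RingEquiv.refl F) ε f) {n₁ n₂ : ℕ} {e : ι ≃ Fin n₁ × Fin n₂} {P : GL ι F}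
    {f₁ : (Fin n₁ → F) → (Fin n₁ → F) → F} {f₂ : (Fin n₂ → F) → (Fin n₂ → F) → F}
    (hstr : IsTensorFormStructure id f f₁ f₂ e P) {a a' : Matrix (Fin n₁) (Fin n₁) F}
    {b b' : Matrix (Fin n₂) (Fin n₂) F} (ha : aᵀ * gramMatrix f₁ = gramMatrix f₁ * a')
    (hb : bᵀ * gramMatrix f₂ = gramMatrix f₂ * b') : IsAdj f (tens e P a b) (tens e P a' b') := by
  obtain ⟨c, hc, h⟩ := hstr
  intro u v
  obtain ⟨x, rfl⟩ := H912.exists_comp_eq e P u
  obtain ⟨y, rfl⟩ := H912.exists_comp_eq e P v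
  rw [H912.tens_mulVec, H912.tens_mulVec, h, h, H912.formOfGram_eq_dotProduct, H912.formOfGram_eq_dotProduct]
  simp only [id]
  congr 1
  rw [Matrix.mulVec_mulVec, ← Matrix.mul_kronecker_mul, ← ha, ← hb, Matrix.mul_kronecker_mul,
    ← Matrix.mulVec_mulVec, ← Matrix.vecMul_transpose, ← Matrix.dotProduct_mulVec]
  congr 1

lemma tens_injective_right {n₁ n₂ : ℕ} (hn : 0 < n₁) {e : ι ≃ Fin n₁ × Fin n₂} {P : GL ι F}
    {b b' : Matrix (Fin n₂) (Fin n₂) F} (h : tens e P (1 : Matrix (Fin n₁) (Fin n₁) F) b = tens e P 1 b') :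
    b = b' := by
  unfold H912.tens at h
  have h1 := congrArg (fun M => ((P⁻¹ : GL ι F) : Matrix ι ι F) * M * (P : Matrix ι ι F)) h
  simp only [← mul_assoc, inv_mul_coe, one_mul] at h1
  simp only [mul_assoc, inv_mul_coe, mul_one] at h1
  have h2 := (Matrix.reindexAlgEquiv F F e.symm).injective h1
  ext i j
  have h3 := congrFun (congrFun h2 (⟨0, hn⟩, i)) (⟨0, hn⟩, j)
  simpa [Matrix.kroneckerMap_apply] using h3

/-- A single element whose span is normalised gives a class C2 or C3 reduction. -/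
theorem cases_of_element [Nonempty ι] [Finite F] (hf : HermForm σ ε f) {H : Subgroup (GL ι F)}
    (hirr : ActsIrreducibly (matrixSet H))
    (hH : ∀ g ∈ H, ∀ u v, f ((g : Matrix ι ι F) *ᵥ u) ((g : Matrix ι ι F) *ᵥ v) = f u v)
    {s : Matrix ι ι F} (hs : ∀ h ∈ H, ∃ c : F, conjM h s = c • s) (hadj : ∃ c : F, adjM σ f s = c • s)
    (hns : ∀ c : F, s ≠ c • 1) :
    (∃ (t m : ℕ) (D : Fin t → Submodule F (ι → F)), IsNondegenerateMDecomposition f m D ∧
      H ≤ decompositionStabilizer D ∧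
      (∀ i j, ∃ h ∈ H, (D i).map (Matrix.toLin' (h : Matrix ι ι F)) = D j)) ∨
    (∃ (m : ℕ) (D : Fin 2 → Submodule F (ι → F)), IsMDecomposition m D ∧
      (∀ i, IsTotallySingularFor f (D i)) ∧ H ≤ decompositionStabilizer D) ∨
    (∃ (r : ℕ) (K : Subalgebra F (Matrix ι ι F)), r.Prime ∧ IsFieldSubalgebra r K ∧
      IsAdjointClosedFor f K ∧ H ≤ subalgebraNormalizer K) := by
  let C : Subalgebra F (Matrix ι ι F) := Algebra.adjoin F {s}
  have hsC : s ∈ C := Algebra.self_mem_adjoin_singleton F s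
  have hcomm : ∀ x ∈ C, ∀ y ∈ C, x * y = y * x := by
    intro x hx y hy
    have h1 : x ∈ Algebra.adjoin F {s} := hx
    have h2 : y ∈ Algebra.adjoin F {s} := hy
    rw [Algebra.adjoin_singleton_eq_range_aeval] at h1 h2
    obtain ⟨p, rfl⟩ := h1
    obtain ⟨q, rfl⟩ := h2
    change (Polynomial.aeval s) p * (Polynomial.aeval s) q = (Polynomial.aeval s) q * (Polynomial.aeval s) p
    rw [← map_mul, ← map_mul, mul_comm]
  have hN : Normalises H C := by
    intro h hh c hc
    change conjM h c ∈ C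
    induction hc using Algebra.adjoin_induction with
    | mem x hx =>
      rw [Set.mem_singleton_iff] at hx
      subst hx
      obtain ⟨c, hc⟩ := hs h hh
      rw [hc]
      exact Subalgebra.smul_mem _ hsC _
    | algebraMap r => rw [AlgEquiv.commutes]; exact Subalgebra.algebraMap_mem _ _
    | add x y _ _ hx hy => rw [map_add]; exact Subalgebra.add_mem _ hx hy
    | mul x y _ _ hx hy => rw [map_mul]; exact Subalgebra.mul_mem _ hx hy
  have hC : IsAdjointClosedFor f C := by
    apply isAdjointClosedFor_of hf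
    intro c hc
    induction hc using Algebra.adjoin_induction with
    | mem x hx =>
      rw [Set.mem_singleton_iff] at hx
      subst hx
      obtain ⟨c, hc⟩ := hadj
      rw [hc]
      exact Subalgebra.smul_mem _ hsC _
    | algebraMap r =>
      rw [Algebra.algebraMap_eq_smul_one, adjM_smul hf, adjM_one hf]
      exact Subalgebra.smul_mem _ (Subalgebra.one_mem _) _
    | add x y _ _ hx hy => rw [adjM_add hf]; exact Subalgebra.add_mem _ hx hy
    | mul x y _ _ hx hy => rw [adjM_mul hf]; exact Subalgebra.mul_mem _ hy hx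
  rcases comm_cases_form hf hirr hH (normalises_iff_le.mp hN) hcomm hC with h | h | ⟨r, K, hr, -, h1, h2, h3⟩ | hbot
  · exact Or.inl h
  · exact Or.inr (Or.inl h)
  · exact Or.inr (Or.inr ⟨r, K, hr, h1, h2, h3⟩)
  · exfalso
    have h1 : s ∈ (⊥ : Subalgebra F (Matrix ι ι F)) := by rw [← hbot]; exact hsC
    rw [Algebra.mem_bot] at h1
    obtain ⟨c, hc⟩ := h1
    apply hns c
    rw [← hc, Algebra.algebraMap_eq_smul_one]

/-- **C4 with a two-dimensional symmetric factor, odd characteristic.** -/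
theorem cases_of_tensor_two [Nonempty ι] [Finite F] (h2 : (2 : F) ≠ 0) (hf : HermForm (RingEquiv.refl F) ε f)
    {H : Subgroup (GL ι F)} (hirr : ActsIrreducibly (matrixSet H))
    (hH : ∀ g ∈ H, ∀ u v, f ((g : Matrix ι ι F) *ᵥ u) ((g : Matrix ι ι F) *ᵥ v) = f u v)
    {n₁ : ℕ} (hn₁ : 0 < n₁) {e : ι ≃ Fin n₁ × Fin 2} {P : GL ι F} {ε₁ : F} {f₁ : (Fin n₁ → F) → (Fin n₁ → F) → F}
    {f₂ : (Fin 2 → F) → (Fin 2 → F) → F} (hf₁ : HermForm (RingEquiv.refl F) ε₁ f₁)
    (hf₂ : HermForm (RingEquiv.refl F) 1 f₂) (hstr : IsTensorFormStructure id f f₁ f₂ e P)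
    (hle : H ≤ tensorProductSubgroup n₁ 2 e P) :
    (∃ (t m : ℕ) (D : Fin t → Submodule F (ι → F)), IsNondegenerateMDecomposition f m D ∧
      H ≤ decompositionStabilizer D ∧
      (∀ i j, ∃ h ∈ H, (D i).map (Matrix.toLin' (h : Matrix ι ι F)) = D j)) ∨
    (∃ (m : ℕ) (D : Fin 2 → Submodule F (ι → F)), IsMDecomposition m D ∧
      (∀ i, IsTotallySingularFor f (D i)) ∧ H ≤ decompositionStabilizer D) ∨
    (∃ (r : ℕ) (K : Subalgebra F (Matrix ι ι F)), r.Prime ∧ IsFieldSubalgebra r K ∧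
      IsAdjointClosedFor f K ∧ H ≤ subalgebraNormalizer K) := by
  set G := gramMatrix f₂ with hG
  have hGu : IsUnit G := isUnit_gram hf₂
  have hGd : IsUnit G.det := (Matrix.isUnit_iff_isUnit_det _).mp hGu
  have hGsym : Gᵀ = G := by
    ext i j
    have := hf₂.herm (Pi.single j 1) (Pi.single i 1)
    simpa [hG, gramMatrix] using this
  let J : Matrix (Fin 2) (Fin 2) F := !![0, 1; -1, 0]
  have hJt : Jᵀ = -J := by
    ext i j
    fin_cases i <;> fin_cases j <;> simp [J]
  let s : Matrix (Fin 2) (Fin 2) F := G⁻¹ * J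
  have hGs : G * s = J := by
    simp only [s]
    rw [← mul_assoc, Matrix.mul_nonsing_inv _ hGd, one_mul]
  have hst : sᵀ * G = G * (-s) := by
    have h3 : (G * s)ᵀ = sᵀ * G := by rw [Matrix.transpose_mul, hGsym]
    rw [Matrix.mul_neg, ← h3, hGs, hJt]
  have hskew : ∀ y : Matrix (Fin 2) (Fin 2) F, yᵀ * G = G * (-y) → ∃ c : F, y = c • s := by
    intro y hy
    have h3 : (G * y)ᵀ = -(G * y) := by
      rw [Matrix.transpose_mul, hGsym, hy, Matrix.mul_neg]
    have h4 : G * y = (G * y) 0 1 • J := by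
      have e00 : (G * y) 0 0 = 0 := by
        have := congrFun (congrFun h3 0) 0
        rw [Matrix.transpose_apply, Matrix.neg_apply] at this
        have h5 : (2 : F) * (G * y) 0 0 = 0 := by rw [two_mul]; nth_rewrite 1 [this]; exact neg_add_cancel _
        exact (mul_eq_zero.mp h5).resolve_left h2
      have e11 : (G * y) 1 1 = 0 := by
        have := congrFun (congrFun h3 1) 1
        rw [Matrix.transpose_apply, Matrix.neg_apply] at this
        have h5 : (2 : F) * (G * y) 1 1 = 0 := by rw [two_mul]; nth_rewrite 1 [this]; exact neg_add_cancel _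
        exact (mul_eq_zero.mp h5).resolve_left h2
      have e10 : (G * y) 1 0 = -(G * y) 0 1 := by
        have := congrFun (congrFun h3 0) 1
        rwa [Matrix.transpose_apply, Matrix.neg_apply] at this
      ext i j
      fin_cases i <;> fin_cases j <;> simp [J, e00, e11, e10]
    have h5 : y = G⁻¹ * (G * y) := by rw [← mul_assoc, Matrix.nonsing_inv_mul _ hGd, one_mul]
    generalize (G * y) 0 1 = c at h4
    refine ⟨c, ?_⟩
    rw [h5, h4]
    simp only [s, Matrix.mul_smul]
  have hadjs : IsAdj f (tens e P 1 s) (tens e P 1 (-s)) :=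
    isAdj_tens hf hstr (by rw [Matrix.transpose_one, one_mul, mul_one]) (by rw [← hG]; exact hst)
  have htneg : ∀ y : Matrix (Fin 2) (Fin 2) F,
      tens e P (1 : Matrix (Fin n₁) (Fin n₁) F) (-y) = (-1 : F) • tens e P 1 y := by
    intro y
    unfold H912.tens
    rw [show -y = (-1 : F) • y by rw [neg_smul, one_smul], Matrix.kronecker_smul, map_smul, Matrix.mul_smul,
      Matrix.smul_mul]
  have htsmul : ∀ (c : F) (y : Matrix (Fin 2) (Fin 2) F),
      tens e P (1 : Matrix (Fin n₁) (Fin n₁) F) (c • y) = c • tens e P 1 y := by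
    intro c y
    unfold H912.tens
    rw [Matrix.kronecker_smul, map_smul, Matrix.mul_smul, Matrix.smul_mul]
  apply cases_of_element hf hirr hH (s := tens e P 1 s)
  · intro h hh
    obtain ⟨a, b, hab⟩ := mem_tensorProductSubgroup_iff.mp (hle hh)
    obtain ⟨a', b', hab'⟩ := mem_tensorProductSubgroup_iff.mp (hle (H.inv_mem hh))
    -- use the inverse pair
    have hinv : ((h⁻¹ : GL ι F) : Matrix ι ι F) = tens e P ((a⁻¹ : GL (Fin n₁) F) : Matrix _ _ F)
        ((b⁻¹ : GL (Fin 2) F) : Matrix _ _ F) := by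
      have h3 : (h : Matrix ι ι F) * tens e P ((a⁻¹ : GL (Fin n₁) F) : Matrix _ _ F)
        ((b⁻¹ : GL (Fin 2) F) : Matrix _ _ F) = 1 := by
        rw [hab, H912.tens_mul, mul_inv_coe, mul_inv_coe, H912.tens_one]
      calc ((h⁻¹ : GL ι F) : Matrix ι ι F) = ((h⁻¹ : GL ι F) : Matrix ι ι F) * ((h : Matrix ι ι F) *
            tens e P ((a⁻¹ : GL (Fin n₁) F) : Matrix _ _ F) ((b⁻¹ : GL (Fin 2) F) : Matrix _ _ F)) := by
            rw [h3, mul_one]
        _ = _ := by rw [← mul_assoc, inv_mul_coe, one_mul]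
    have hconj : conjM h (tens e P 1 s) = tens e P 1 ((b : Matrix _ _ F) * s * ((b⁻¹ : GL (Fin 2) F) : Matrix _ _ F)) := by
      rw [conjM_apply, hinv, hab, H912.tens_mul, H912.tens_mul, mul_one, mul_inv_coe]
    have h4 : adjM (RingEquiv.refl F) f (conjM h (tens e P 1 s)) = (-1 : F) • conjM h (tens e P 1 s) := by
      rw [adjM_conjM hf (hH h hh), adjM_eq hf hadjs, htneg, map_smul]
    set y := (b : Matrix _ _ F) * s * ((b⁻¹ : GL (Fin 2) F) : Matrix _ _ F) with hy
    -- the adjoint of tens 1 y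
    have h5 : IsAdj f (tens e P (1 : Matrix (Fin n₁) (Fin n₁) F) y) (tens e P 1 (G⁻¹ * yᵀ * G)) :=
      isAdj_tens hf hstr (by rw [Matrix.transpose_one, one_mul, mul_one]) (by
        rw [← hG, ← mul_assoc, ← mul_assoc, Matrix.mul_nonsing_inv _ hGd, one_mul])
    rw [hconj, adjM_eq hf h5, ← htneg] at h4
    have h6 := tens_injective_right hn₁ h4
    obtain ⟨c, hc⟩ := hskew y (by
      rw [← h6, ← mul_assoc, ← mul_assoc, Matrix.mul_nonsing_inv _ hGd, one_mul])
    refine ⟨c, ?_⟩
    rw [hconj, hc, htsmul]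
  · exact ⟨-1, by rw [adjM_eq hf hadjs, htneg]⟩
  · intro c hc
    have h3 : tens e P (1 : Matrix (Fin n₁) (Fin n₁) F) s = tens e P 1 (c • 1) := by
      rw [htsmul, H912.tens_one]; exact hc
    have h4 := tens_injective_right hn₁ h3
    have h5 : G * (c • 1) = J := by rw [← h4]; exact hGs
    rw [Matrix.mul_smul, mul_one] at h5
    have h6 := hJt
    rw [← h5, Matrix.transpose_smul, hGsym] at h6
    -- c • G = -(c • G)
    have h7 : J 0 1 = 0 := by
      have h8 := congrFun (congrFun h6 0) 1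
      rw [Matrix.neg_apply] at h8
      have h9 : (2 : F) * (c • G) 0 1 = 0 := by rw [two_mul]; nth_rewrite 1 [h8]; exact neg_add_cancel _
      rw [← h5]
      exact (mul_eq_zero.mp h9).resolve_left h2
    simp [J] at h7

end Cfsg.Agent.H924
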