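import Cfsg.Prelude.Def_GeometricClasses
set_option linter.all false

-- part: H924/Base
section
/-!
Aschbacher library (H924), part 0: basic vocabulary.
`Normalises H C`: every element of `H` conjugates the subalgebra `C` of the matrix algebra into itself.
Main result: an algebra normalised by an irreducible group is semisimple.
-/

set_option autoImplicit false
open Cfsg Cfsg.Geo Matrix

namespace Cfsg.Agent.H924

variable {ι : Type} [Fintype ι] [DecidableEq ι] {F : Type*} [Field F]

/-- `H` normalises the subalgebra `C` of the matrix algebra. -/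
def Normalises (H : Subgroup (GL ι F)) (C : Subalgebra F (Matrix ι ι F)) : Prop :=
  ∀ h ∈ H, ∀ c ∈ C, (h : Matrix ι ι F) * c * ((h⁻¹ : GL ι F) : Matrix ι ι F) ∈ C

/-- Conjugation of matrices by an invertible matrix as an algebra automorphism. -/
noncomputable def conjM (h : GL ι F) : Matrix ι ι F ≃ₐ[F] Matrix ι ι F where
  toFun c := (h : Matrix ι ι F) * c * ((h⁻¹ : GL ι F) : Matrix ι ι F)
  invFun c := ((h⁻¹ : GL ι F) : Matrix ι ι F) * c * (h : Matrix ι ι F)
  left_inv c := by
    have h1 : ((h⁻¹ : GL ι F) : Matrix ι ι F) * (h : Matrix ι ι F) = 1 := by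
      rw [← Units.val_mul, inv_mul_cancel, Units.val_one]
    calc _ = (((h⁻¹ : GL ι F) : Matrix ι ι F) * (h : Matrix ι ι F)) * c *
          (((h⁻¹ : GL ι F) : Matrix ι ι F) * (h : Matrix ι ι F)) := by simp only [mul_assoc]
      _ = c := by rw [h1, one_mul, mul_one]
  right_inv c := by
    have h1 : (h : Matrix ι ι F) * ((h⁻¹ : GL ι F) : Matrix ι ι F) = 1 := by
      rw [← Units.val_mul, mul_inv_cancel, Units.val_one]
    calc _ = ((h : Matrix ι ι F) * ((h⁻¹ : GL ι F) : Matrix ι ι F)) * c *
          ((h : Matrix ι ι F) * ((h⁻¹ : GL ι F) : Matrix ι ι F)) := by simp only [mul_assoc]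
      _ = c := by rw [h1, one_mul, mul_one]
  map_mul' a b := by
    have h1 : ((h⁻¹ : GL ι F) : Matrix ι ι F) * (h : Matrix ι ι F) = 1 := by
      rw [← Units.val_mul, inv_mul_cancel, Units.val_one]
    calc _ = (h : Matrix ι ι F) * a * 1 * b * ((h⁻¹ : GL ι F) : Matrix ι ι F) := by
            rw [mul_one]; simp only [mul_assoc]
      _ = _ := by rw [← h1]; simp only [mul_assoc]
  map_add' a b := by simp only [mul_add, add_mul]
  commutes' r := by
    have h1 : (h : Matrix ι ι F) * ((h⁻¹ : GL ι F) : Matrix ι ι F) = 1 := by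
      rw [← Units.val_mul, mul_inv_cancel, Units.val_one]
    rw [← Algebra.commutes, mul_assoc, h1, mul_one]

@[simp] lemma conjM_apply (h : GL ι F) (c : Matrix ι ι F) :
    conjM h c = (h : Matrix ι ι F) * c * ((h⁻¹ : GL ι F) : Matrix ι ι F) := rfl

lemma conjM_mulVec (h : GL ι F) (c : Matrix ι ι F) (v : ι → F) :
    (conjM h c) *ᵥ ((h : Matrix ι ι F) *ᵥ v) = (h : Matrix ι ι F) *ᵥ (c *ᵥ v) := by
  have h1 : ((h⁻¹ : GL ι F) : Matrix ι ι F) * (h : Matrix ι ι F) = 1 := by
    rw [← Units.val_mul, inv_mul_cancel, Units.val_one]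
  rw [conjM_apply, Matrix.mulVec_mulVec, mul_assoc, h1, mul_one, Matrix.mulVec_mulVec]

lemma inv_mul_coe (h : GL ι F) : ((h⁻¹ : GL ι F) : Matrix ι ι F) * (h : Matrix ι ι F) = 1 := by
  rw [← Units.val_mul, inv_mul_cancel, Units.val_one]

lemma mul_inv_coe (h : GL ι F) : (h : Matrix ι ι F) * ((h⁻¹ : GL ι F) : Matrix ι ι F) = 1 := by
  rw [← Units.val_mul, mul_inv_cancel, Units.val_one]

lemma Normalises.conj_mem {H : Subgroup (GL ι F)} {C : Subalgebra F (Matrix ι ι F)} (hN : Normalises H C)
    {h : GL ι F} (hh : h ∈ H) {c : Matrix ι ι F} (hc : c ∈ C) : conjM h c ∈ C := hN h hh c hc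

lemma Normalises.conj_mem_iff {H : Subgroup (GL ι F)} {C : Subalgebra F (Matrix ι ι F)} (hN : Normalises H C)
    {h : GL ι F} (hh : h ∈ H) {c : Matrix ι ι F} : conjM h c ∈ C ↔ c ∈ C := by
  refine ⟨fun hc => ?_, fun hc => hN.conj_mem hh hc⟩
  have := hN _ (H.inv_mem hh) _ hc
  rw [conjM_apply, inv_inv] at this
  have h2 : ((h⁻¹ : GL ι F) : Matrix ι ι F) *
      ((h : Matrix ι ι F) * c * ((h⁻¹ : GL ι F) : Matrix ι ι F)) * (h : Matrix ι ι F) = c := by
    calc _ = (((h⁻¹ : GL ι F) : Matrix ι ι F) * (h : Matrix ι ι F)) * c *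
          (((h⁻¹ : GL ι F) : Matrix ι ι F) * (h : Matrix ι ι F)) := by simp only [mul_assoc]
      _ = c := by rw [inv_mul_coe, one_mul, mul_one]
  rwa [h2] at this

lemma normalises_iff_le {H : Subgroup (GL ι F)} {C : Subalgebra F (Matrix ι ι F)} :
    Normalises H C ↔ H ≤ subalgebraNormalizer C := by
  constructor
  · intro hN h hh k
    exact (hN.conj_mem_iff hh).symm
  · intro hle h hh c hc
    exact (hle hh c).mp hc

/-- The centre of a normalised algebra is normalised; here in the form of the centraliser. -/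
lemma Normalises.centralizer {H : Subgroup (GL ι F)} {C : Subalgebra F (Matrix ι ι F)} (hN : Normalises H C) :
    Normalises H (Subalgebra.centralizer F (C : Set (Matrix ι ι F))) := by
  intro h hh c hc
  rw [Subalgebra.mem_centralizer_iff] at hc ⊢
  intro d hd
  have hd' : conjM h⁻¹ d ∈ C := hN.conj_mem (H.inv_mem hh) hd
  have h1 := hc _ hd'
  have h2 : d = conjM h (conjM h⁻¹ d) := by
    simp only [conjM_apply, inv_inv]
    calc d = ((h : Matrix ι ι F) * ((h⁻¹ : GL ι F) : Matrix ι ι F)) * d *
          ((h : Matrix ι ι F) * ((h⁻¹ : GL ι F) : Matrix ι ι F)) := by rw [mul_inv_coe, one_mul, mul_one]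
      _ = _ := by simp only [mul_assoc]
  change d * conjM h c = conjM h c * d
  rw [h2, ← map_mul, ← map_mul, h1]

lemma Normalises.inf {H : Subgroup (GL ι F)} {C D : Subalgebra F (Matrix ι ι F)} (hN : Normalises H C)
    (hM : Normalises H D) : Normalises H (C ⊓ D) :=
  fun h hh c hc => ⟨hN h hh c hc.1, hM h hh c hc.2⟩

/-! ### Irreducibility in a convenient form -/

/-- An irreducible group leaves no proper non-zero subspace invariant (stated with `mulVec`). -/
lemma irr_subspace {H : Subgroup (GL ι F)} (hirr : ActsIrreducibly (matrixSet H)) (W : Submodule F (ι → F))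
    (hW : ∀ h ∈ H, ∀ v ∈ W, (h : Matrix ι ι F) *ᵥ v ∈ W) : W = ⊥ ∨ W = ⊤ := by
  apply hirr W
  rintro _ ⟨h, hh, rfl⟩
  rw [Submodule.map_le_iff_le_comap]
  intro v hv
  exact hW h hh v hv

end Cfsg.Agent.H924
end

-- part: H924/Semi
section
/-!
Aschbacher library (H924): a subalgebra of the matrix algebra that is normalised by an irreducible group is a
semisimple ring (and reduced, when it is commutative).
-/

set_option autoImplicit false
set_option linter.style.haveILetI false
open Cfsg Cfsg.Geo Matrix

namespace Cfsg.Agent.H924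

variable {ι : Type} [Fintype ι] [DecidableEq ι] {F : Type*} [Field F]

section

variable (A : Subalgebra F (Matrix ι ι F))

lemma vec_smul_def (a : A) (v : ι → F) : a • v = (a : Matrix ι ι F) *ᵥ v := rfl

/-- An `A`-submodule of the space of column vectors, as an `F`-subspace. -/
noncomputable def toSubspace (W : Submodule A (ι → F)) : Submodule F (ι → F) :=
  { carrier := W
    add_mem' := fun ha hb => W.add_mem ha hb
    zero_mem' := W.zero_mem
    smul_mem' := fun c v hv => by
      have h := W.smul_mem (algebraMap F A c) hv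
      rw [vec_smul_def] at h
      have h2 : ((algebraMap F A c : A) : Matrix ι ι F) *ᵥ v = c • v := by
        change (algebraMap F (Matrix ι ι F) c) *ᵥ v = c • v
        rw [Algebra.algebraMap_eq_smul_one, Matrix.smul_mulVec, Matrix.one_mulVec]
      rwa [h2] at h }

end

/-- The translate of an `A`-submodule by an element of a normalising group. -/
noncomputable def actSub {H : Subgroup (GL ι F)} {A : Subalgebra F (Matrix ι ι F)} (hN : Normalises H A)
    (g : GL ι F) (hg : g ∈ H) (S : Submodule A (ι → F)) : Submodule A (ι → F) where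
  carrier := {v | ((g⁻¹ : GL ι F) : Matrix ι ι F) *ᵥ v ∈ S}
  add_mem' := fun {a b} ha hb => by
    simp only [Set.mem_setOf_eq, Matrix.mulVec_add] at *
    exact S.add_mem ha hb
  zero_mem' := by simp
  smul_mem' := fun a v hv => by
    simp only [Set.mem_setOf_eq] at *
    rw [vec_smul_def]
    have h1 : conjM g⁻¹ (a : Matrix ι ι F) ∈ A := hN.conj_mem (H.inv_mem hg) a.2
    have h2 := S.smul_mem ⟨_, h1⟩ hv
    rw [vec_smul_def] at h2
    rwa [conjM_mulVec] at h2

lemma mem_actSub {H : Subgroup (GL ι F)} {A : Subalgebra F (Matrix ι ι F)} (hN : Normalises H A)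
    (g : GL ι F) (hg : g ∈ H) (S : Submodule A (ι → F)) (v : ι → F) :
    v ∈ actSub hN g hg S ↔ ((g⁻¹ : GL ι F) : Matrix ι ι F) *ᵥ v ∈ S := Iff.rfl

/-- An element of a normalising group induces an order automorphism of the lattice of `A`-submodules. -/
noncomputable def latIso {H : Subgroup (GL ι F)} {A : Subalgebra F (Matrix ι ι F)} (hN : Normalises H A)
    (h : GL ι F) (hh : h ∈ H) :
    Submodule A (ι → F) ≃o Submodule A (ι → F) where
  toFun := actSub hN h hh
  invFun := actSub hN h⁻¹ (H.inv_mem hh)
  left_inv := by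
    intro S
    ext v
    rw [mem_actSub hN h⁻¹ (H.inv_mem hh), mem_actSub hN h hh, inv_inv, Matrix.mulVec_mulVec, inv_mul_coe,
      Matrix.one_mulVec]
  right_inv := by
    intro S
    ext v
    rw [mem_actSub hN h hh, mem_actSub hN h⁻¹ (H.inv_mem hh), inv_inv, Matrix.mulVec_mulVec, mul_inv_coe,
      Matrix.one_mulVec]
  map_rel_iff' := by
    intro S T
    constructor
    · intro hle v hv
      have h1 : (h : Matrix ι ι F) *ᵥ v ∈ actSub hN h hh S := by
        rw [mem_actSub hN h hh, Matrix.mulVec_mulVec, inv_mul_coe, Matrix.one_mulVec]; exact hv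
      have h2 : (h : Matrix ι ι F) *ᵥ v ∈ actSub hN h hh T := hle h1
      rw [mem_actSub hN h hh, Matrix.mulVec_mulVec, inv_mul_coe, Matrix.one_mulVec] at h2
      exact h2
    · intro hle v hv
      have hv' : v ∈ actSub hN h hh S := hv
      change v ∈ actSub hN h hh T
      rw [mem_actSub hN h hh] at hv' ⊢
      exact hle hv'

lemma mem_latIso {H : Subgroup (GL ι F)} {A : Subalgebra F (Matrix ι ι F)} (hN : Normalises H A)
    (h : GL ι F) (hh : h ∈ H) (S : Submodule A (ι → F)) (v : ι → F) :
    v ∈ latIso hN h hh S ↔ ((h⁻¹ : GL ι F) : Matrix ι ι F) *ᵥ v ∈ S := Iff.rfl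

theorem isSemisimpleModule_vec {H : Subgroup (GL ι F)} (hirr : ActsIrreducibly (matrixSet H))
    {A : Subalgebra F (Matrix ι ι F)} (hN : Normalises H A) :
    IsSemisimpleModule A (ι → F) := by
  rw [← sSup_simples_eq_top_iff_isSemisimpleModule]
  simp_rw [isSimpleModule_iff_isAtom]
  -- the socle is invariant
  set S : Submodule A (ι → F) := sSup {m : Submodule A (ι → F) | IsAtom m} with hS
  have hinv : ∀ (h : GL ι F) (hh : h ∈ H), latIso hN h hh S = S := by
    intro h hh
    rw [hS, OrderIso.map_sSup]
    apply le_antisymm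
    · apply iSup₂_le
      intro m hm
      exact le_sSup ((OrderIso.isAtom_iff (latIso hN h hh) m).mpr hm)
    · apply sSup_le
      intro m hm
      have h1 : IsAtom ((latIso hN h hh).symm m) := (OrderIso.isAtom_iff (latIso hN h hh).symm m).mpr hm
      have h2 : m = latIso hN h hh ((latIso hN h hh).symm m) := by simp
      rw [h2]
      exact le_iSup₂_of_le _ h1 le_rfl
  have hW := irr_subspace hirr (toSubspace A S) (by
    intro h hh v hv
    have h1 := hinv h hh
    change (h : Matrix ι ι F) *ᵥ v ∈ S
    rw [← h1, mem_latIso, Matrix.mulVec_mulVec, inv_mul_coe, Matrix.one_mulVec]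
    exact hv)
  have hbot : S = ⊥ → S = ⊤ := by
    intro h0
    -- then there are no atoms; the module is Artinian, so it is trivial
    have hfin : Module.Finite F (ι → F) := inferInstance
    haveI : IsArtinian A (ι → F) := by
      let f : Submodule A (ι → F) → Submodule F (ι → F) := toSubspace A
      have hf : ∀ {P Q : Submodule A (ι → F)}, P < Q → f P < f Q := fun {P Q} h => h
      haveI hwf : WellFoundedLT (Submodule F (ι → F)) := inferInstance
      refine ⟨?_⟩
      exact Subrelation.wf (fun {a b} (h : a < b) => (hf h : InvImage (· < ·) f a b)) (InvImage.wf f hwf.wf)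
    haveI : IsAtomic (Submodule A (ι → F)) := inferInstance
    rcases eq_bot_or_exists_atom_le (⊤ : Submodule A (ι → F)) with h | ⟨a, ha, _⟩
    · rw [h0, h]
    · exfalso
      have : a ≤ S := le_sSup ha
      rw [h0, le_bot_iff] at this
      exact ha.1 this
  rcases hW with h | h
  · apply hbot
    rw [eq_bot_iff]
    intro v hv
    have : v ∈ toSubspace A S := hv
    rw [h] at this
    exact this
  · rw [eq_top_iff]
    intro v _
    have : v ∈ toSubspace A S := by rw [h]; trivial
    exact this

/-- An algebra normalised by an irreducible group is semisimple. -/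
theorem isSemisimpleRing_of_normalised {H : Subgroup (GL ι F)} (hirr : ActsIrreducibly (matrixSet H))
    {A : Subalgebra F (Matrix ι ι F)} (hN : Normalises H A) : IsSemisimpleRing A := by
  haveI := isSemisimpleModule_vec hirr hN
  haveI : IsArtinianRing A := by
    haveI : Module.Finite F A := inferInstance
    exact IsArtinianRing.of_finite F A
  rw [IsArtinianRing.isSemisimpleRing_iff_jacobson, eq_bot_iff]
  intro a ha
  have h1 := IsSemisimpleModule.jacobson_le_annihilator A (ι → F) ha
  rw [Module.mem_annihilator] at h1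
  rw [Submodule.mem_bot]
  apply Subtype.ext
  apply Matrix.toLin'.injective
  rw [ZeroMemClass.coe_zero, map_zero]
  apply LinearMap.ext
  intro v
  have := (vec_smul_def A a v).symm.trans (h1 v)
  simpa using this

/-- The centre-like commutative case: reducedness. -/
theorem isReduced_of_normalised {H : Subgroup (GL ι F)} (hirr : ActsIrreducibly (matrixSet H))
    {C : Subalgebra F (Matrix ι ι F)} (hN : Normalises H C) (hcomm : ∀ x ∈ C, ∀ y ∈ C, x * y = y * x)
    {c : Matrix ι ι F} (hc : c ∈ C) (hnil : IsNilpotent c) : c = 0 := by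
  haveI := isSemisimpleRing_of_normalised hirr hN
  letI : CommRing C := { (inferInstance : Ring C) with mul_comm := fun a b => Subtype.ext (hcomm _ a.2 _ b.2) }
  haveI : IsReduced C := inferInstance
  obtain ⟨n, hn⟩ := hnil
  have : IsNilpotent (⟨c, hc⟩ : C) := ⟨n, Subtype.ext (by simpa using hn)⟩
  have h0 := this.eq_zero
  simpa using congrArg Subtype.val h0

end Cfsg.Agent.H924
end

-- part: H924/Idem
section
/-!
Aschbacher library (H924): primitive idempotents of a commutative subalgebra normalised by an irreducible group.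
-/

set_option autoImplicit false
set_option linter.style.haveILetI false
open Cfsg Cfsg.Geo Matrix

namespace Cfsg.Agent.H924

variable {ι : Type} [Fintype ι] [DecidableEq ι] {F : Type*} [Field F]

/-- `e` is a primitive idempotent of `C`: a non-zero idempotent for which `eC` is a field. -/
structure IsPrimIdem (C : Subalgebra F (Matrix ι ι F)) (e : Matrix ι ι F) : Prop where
  mem : e ∈ C
  ne_zero : e ≠ 0
  idem : e * e = e
  prim : ∀ c ∈ C, e * c = 0 ∨ ∃ c' ∈ C, e * c * c' = e

lemma IsPrimIdem.eq_of_mul_ne_zero {C : Subalgebra F (Matrix ι ι F)} (hcomm : ∀ x ∈ C, ∀ y ∈ C, x * y = y * x)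
    {e e' : Matrix ι ι F} (he : IsPrimIdem C e) (he' : IsPrimIdem C e') (h : e * e' ≠ 0) : e = e' := by
  have key : ∀ {a b : Matrix ι ι F}, IsPrimIdem C a → IsPrimIdem C b → a * b ≠ 0 → a * b = a := by
    intro a b ha hb hab
    rcases ha.prim b hb.mem with h0 | ⟨c', hc', h1⟩
    · exact absurd h0 hab
    · calc a * b = (a * b * c') * b := by rw [h1]
        _ = a * (b * c') * b := by simp only [mul_assoc]
        _ = a * (c' * b) * b := by rw [hcomm b hb.mem c' hc']
        _ = a * c' * (b * b) := by simp only [mul_assoc]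
        _ = a * c' * b := by rw [hb.idem]
        _ = a * (c' * b) := by simp only [mul_assoc]
        _ = a * (b * c') := by rw [hcomm b hb.mem c' hc']
        _ = a * b * c' := by simp only [mul_assoc]
        _ = a := h1
  have h1 := key he he' h
  have h' : e' * e ≠ 0 := by rwa [hcomm e' he'.mem e he.mem]
  have h2 := key he' he h'
  rw [← h1, hcomm e he.mem e' he'.mem, h2]

/-- The complete system of primitive idempotents of a commutative algebra normalised by an irreducible group. -/
theorem exists_idems {H : Subgroup (GL ι F)} (hirr : ActsIrreducibly (matrixSet H))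
    {C : Subalgebra F (Matrix ι ι F)} (hN : Normalises H C) (hcomm : ∀ x ∈ C, ∀ y ∈ C, x * y = y * x) :
    ∃ (t : ℕ) (e : Fin t → Matrix ι ι F), (∀ i, IsPrimIdem C (e i)) ∧ Function.Injective e ∧
      (∑ i, e i = 1) ∧ (∀ e', IsPrimIdem C e' → ∃ i, e i = e') := by
  classical
  haveI := isSemisimpleRing_of_normalised hirr hN
  letI : CommRing C := { (inferInstance : Ring C) with mul_comm := fun a b => Subtype.ext (hcomm _ a.2 _ b.2) }
  haveI : IsReduced C := inferInstance
  haveI : IsArtinianRing C := by
    haveI : Module.Finite F C := inferInstance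
    exact IsArtinianRing.of_finite F C
  haveI : Finite (MaximalSpectrum C) := inferInstance
  haveI : Fintype (MaximalSpectrum C) := Fintype.ofFinite _
  let φ := IsArtinianRing.equivPi C
  let n := Fintype.card (MaximalSpectrum C)
  let k : MaximalSpectrum C ≃ Fin n := Fintype.equivFin _
  let e0 : MaximalSpectrum C → C := fun I => φ.symm (Pi.single I 1)
  have hφ : ∀ I, φ (e0 I) = Pi.single I 1 := fun I => by simp [e0]
  have hne : ∀ I, e0 I ≠ 0 := by
    intro I h0
    have h1 := hφ I
    rw [h0, map_zero] at h1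
    have h2 := congrFun h1 I
    rw [Pi.single_eq_same] at h2
    haveI := I.isMaximal
    exact zero_ne_one h2
  have hidem : ∀ I, e0 I * e0 I = e0 I := by
    intro I
    apply φ.injective
    rw [map_mul, hφ, ← Pi.single_mul, one_mul]
  have hprim : ∀ I, ∀ c : C, e0 I * c = 0 ∨ ∃ c' : C, e0 I * c * c' = e0 I := by
    intro I c
    haveI := I.isMaximal
    by_cases h0 : φ c I = 0
    · left
      apply φ.injective
      rw [map_mul, hφ, map_zero]
      ext J
      rcases eq_or_ne J I with rfl | hJ
      · simp [h0]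
      · simp [Pi.single_eq_of_ne hJ]
    · right
      letI := Ideal.Quotient.field I.asIdeal
      refine ⟨φ.symm (Pi.single I ((φ c I)⁻¹)), ?_⟩
      apply φ.injective
      rw [map_mul, map_mul, hφ, AlgEquiv.apply_symm_apply]
      ext J
      rcases eq_or_ne J I with rfl | hJ
      · simp only [Pi.mul_apply, Pi.single_eq_same, one_mul]
        exact mul_inv_cancel₀ h0
      · simp [Pi.single_eq_of_ne hJ]
  have hsum : ∑ I, e0 I = 1 := by
    apply φ.injective
    rw [map_sum, map_one]
    simp_rw [hφ]
    exact Finset.univ_sum_single (1 : ∀ I : MaximalSpectrum C, C ⧸ I.asIdeal)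
  have hP : ∀ I, IsPrimIdem C (e0 I : Matrix ι ι F) := by
    intro I
    refine ⟨(e0 I).2, fun h => hne I (Subtype.ext h), ?_, ?_⟩
    · have := congrArg Subtype.val (hidem I)
      simpa using this
    · intro c hc
      rcases hprim I ⟨c, hc⟩ with h | ⟨c', h⟩
      · left
        have := congrArg Subtype.val h
        simpa using this
      · right
        refine ⟨c', c'.2, ?_⟩
        have := congrArg Subtype.val h
        simpa using this
  refine ⟨n, fun i => (e0 (k.symm i) : Matrix ι ι F), fun i => hP _, ?_, ?_, ?_⟩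
  · intro i j hij
    have h1 : e0 (k.symm i) = e0 (k.symm j) := Subtype.ext hij
    have h2 : (Pi.single (k.symm i) 1 : ∀ I : MaximalSpectrum C, C ⧸ I.asIdeal) = Pi.single (k.symm j) 1 := by
      rw [← hφ, ← hφ, h1]
    by_contra hne'
    have h3 : k.symm i ≠ k.symm j := fun h => hne' (k.symm.injective h)
    have h4 := congrFun h2 (k.symm i)
    rw [Pi.single_eq_same, Pi.single_eq_of_ne h3] at h4
    haveI := (k.symm i).isMaximal
    exact one_ne_zero h4
  · have h1 : ∑ i : Fin n, (e0 (k.symm i)) = ∑ I, e0 I := Equiv.sum_comp k.symm e0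
    have h2 := congrArg Subtype.val (h1.trans hsum)
    rw [AddSubmonoidClass.coe_finset_sum] at h2
    exact h2
  · intro e' he'
    by_contra hno
    push Not at hno
    have hzero : ∀ I, e' * (e0 I : Matrix ι ι F) = 0 := by
      intro I
      by_contra h
      have := IsPrimIdem.eq_of_mul_ne_zero hcomm he' (hP I) h
      apply hno (k I)
      simp [this]
    apply he'.ne_zero
    have h2 := congrArg Subtype.val hsum
    rw [AddSubmonoidClass.coe_finset_sum] at h2
    calc e' = e' * 1 := (mul_one _).symm
      _ = e' * (∑ I, (e0 I : Matrix ι ι F)) := by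
          congr 1
          exact h2.symm
      _ = 0 := by rw [Finset.mul_sum]; exact Finset.sum_eq_zero fun I _ => hzero I

/-- The subspace of fixed vectors of a matrix. -/
noncomputable def fixSub (e : Matrix ι ι F) : Submodule F (ι → F) where
  carrier := {v | e *ᵥ v = v}
  add_mem' := fun {a b} ha hb => by
    simp only [Set.mem_setOf_eq] at *
    rw [Matrix.mulVec_add, ha, hb]
  zero_mem' := by simp
  smul_mem' := fun c v hv => by
    simp only [Set.mem_setOf_eq] at *
    rw [Matrix.mulVec_smul, hv]

@[simp] lemma mem_fixSub (e : Matrix ι ι F) (v : ι → F) : v ∈ fixSub e ↔ e *ᵥ v = v := Iff.rfl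

lemma conjM_isPrimIdem {H : Subgroup (GL ι F)} {C : Subalgebra F (Matrix ι ι F)} (hN : Normalises H C)
    {h : GL ι F} (hh : h ∈ H) {e : Matrix ι ι F} (he : IsPrimIdem C e) : IsPrimIdem C (conjM h e) := by
  refine ⟨hN.conj_mem hh he.mem, ?_, ?_, ?_⟩
  · intro h0
    apply he.ne_zero
    apply (conjM h).injective
    rw [h0, map_zero]
  · rw [← map_mul, he.idem]
  · intro c hc
    obtain ⟨d, rfl⟩ : ∃ d, conjM h d = c := (conjM h).surjective c
    have hd : d ∈ C := (hN.conj_mem_iff hh).mp hc
    rcases he.prim d hd with h1 | ⟨d', hd', h1⟩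
    · left
      rw [← map_mul, h1, map_zero]
    · right
      refine ⟨conjM h d', hN.conj_mem hh hd', ?_⟩
      rw [← map_mul, ← map_mul, h1]

lemma map_fixSub (h : GL ι F) (e : Matrix ι ι F) :
    (fixSub e).map (Matrix.toLin' (h : Matrix ι ι F)) = fixSub (conjM h e) := by
  ext v
  rw [Submodule.mem_map]
  constructor
  · rintro ⟨w, hw, rfl⟩
    rw [mem_fixSub] at *
    rw [Matrix.toLin'_apply, conjM_mulVec, hw]
  · intro hv
    rw [mem_fixSub] at hv
    refine ⟨((h⁻¹ : GL ι F) : Matrix ι ι F) *ᵥ v, ?_, ?_⟩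
    · rw [mem_fixSub]
      have h1 : (h : Matrix ι ι F) *ᵥ (((h⁻¹ : GL ι F) : Matrix ι ι F) *ᵥ v) = v := by
        rw [Matrix.mulVec_mulVec, mul_inv_coe, Matrix.one_mulVec]
      have h2 := conjM_mulVec h e (((h⁻¹ : GL ι F) : Matrix ι ι F) *ᵥ v)
      rw [h1, hv] at h2
      rw [← Matrix.one_mulVec (e *ᵥ _), ← inv_mul_coe h, ← Matrix.mulVec_mulVec, ← h2]
    · rw [Matrix.toLin'_apply, Matrix.mulVec_mulVec, mul_inv_coe, Matrix.one_mulVec]

end Cfsg.Agent.H924
end
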