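import Cfsg.Agent.H872.KronPres
import Cfsg.Agent.H929.Quad
import Cfsg.Agent.H925.OrthBasic
import Cfsg.Agent.H880.TI
import Cfsg.Agent.H884.SingMaxPlus
import Cfsg.Agent.H883.Tensor
import Cfsg.Agent.H924.SympForm
import Cfsg.Agent.H924.Reduc
import Cfsg.Agent.H875.SpMcL
import Cfsg.Agent.H931.SpProper
set_option linter.all false

-- part: H924/TenBase
section
/-!
# `Sp_2(q) ⊗ O_n(q)` in `Sp_{2n}(q)`: set-up (helper924)
-/

set_option autoImplicit false
set_option linter.unusedSectionVars false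

open Cfsg Cfsg.Geo Matrix
open scoped Kronecker

namespace Cfsg.Agent.H924.Ten

open Cfsg.Agent.H929 (QF rB)
open Cfsg.Agent.H872

variable {β : Type} [Fintype β] [DecidableEq β] {F : Type*} [Field F]

/-- The set-up: a symplectic form on `F²`, a nondegenerate symmetric form on `F^β` in odd characteristic, and
their tensor product. -/
structure Tens (f₁ : (Fin 2 → F) → (Fin 2 → F) → F) (Q : (β → F) → F) (B : (β → F) → (β → F) → F)
    (f : (Fin 2 × β → F) → (Fin 2 × β → F) → F) : Prop where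
  sym : IsSymplecticForm f₁
  qf : QF Q B
  nd : ∀ x, x ≠ 0 → ∃ y, B x y ≠ 0
  two : (2 : F) ≠ 0
  bil : IsBilinearForm f
  ten : ∀ u w u' w', f (ten u w) (ten u' w') = f₁ u u' * B w w'

/-- Contraction with `B w`. -/
def R (B : (β → F) → (β → F) → F) (w : β → F) : (Fin 2 × β → F) →ₗ[F] (Fin 2 → F) := rc (rB B w)

variable {f₁ : (Fin 2 → F) → (Fin 2 → F) → F} {Q : (β → F) → F} {B : (β → F) → (β → F) → F}
  {f : (Fin 2 × β → F) → (Fin 2 × β → F) → F}

namespace Tens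

variable (T : Tens f₁ Q B f)

include T

lemma R_ten (w : β → F) (u : Fin 2 → F) (x : β → F) : R B w (Cfsg.Agent.H872.ten u x) = B w x • u := by
  rw [R, rc_ten, T.qf.rB_dot]

lemma R_add (w w' : β → F) (v : Fin 2 × β → F) : R B (w + w') v = R B w v + R B w' v := by
  funext i
  simp only [R, rc_apply, T.qf.rB_add, Pi.add_apply, add_mul, Finset.sum_add_distrib]

lemma R_smul (c : F) (w : β → F) (v : Fin 2 × β → F) : R B (c • w) v = c • R B w v := by
  funext i
  simp only [R, rc_apply, T.qf.rB_smul, Pi.smul_apply, smul_eq_mul, Finset.mul_sum, mul_assoc]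

lemma f_zero_left (v : Fin 2 × β → F) : f 0 v = 0 := by
  have := T.bil.smul_left 0 0 v
  simpa using this

lemma f_zero_right (v : Fin 2 × β → F) : f v 0 = 0 := by
  have := T.bil.smul_right 0 v 0
  simpa using this

lemma f₁_zero_left (v : Fin 2 → F) : f₁ 0 v = 0 := by
  have := T.sym.bilinear.smul_left 0 0 v
  simpa using this

lemma f_sum_left {κ : Type} (s : Finset κ) (g : κ → Fin 2 × β → F) (v : Fin 2 × β → F) :
    f (∑ i ∈ s, g i) v = ∑ i ∈ s, f (g i) v := by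
  classical
  induction s using Finset.induction_on with
  | empty => simp [T.f_zero_left]
  | insert a s ha ih => rw [Finset.sum_insert ha, Finset.sum_insert ha, T.bil.add_left, ih]

lemma f₁_sum_left {κ : Type} (s : Finset κ) (g : κ → Fin 2 → F) (v : Fin 2 → F) :
    f₁ (∑ i ∈ s, g i) v = ∑ i ∈ s, f₁ (g i) v := by
  classical
  induction s using Finset.induction_on with
  | empty => simp [T.f₁_zero_left]
  | insert a s ha ih => rw [Finset.sum_insert ha, Finset.sum_insert ha, T.sym.bilinear.add_left, ih]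

lemma form_R (v : Fin 2 × β → F) (u : Fin 2 → F) (w : β → F) :
    f v (Cfsg.Agent.H872.ten u w) = f₁ (R B w v) u := by
  conv_lhs => rw [eq_sum_ten v]
  conv_rhs => rw [eq_sum_ten v]
  rw [T.f_sum_left, map_sum, T.f₁_sum_left]
  apply Finset.sum_congr rfl
  intro i _
  rw [T.ten, T.R_ten, T.sym.bilinear.smul_left, T.qf.comm w, mul_comm]

lemma f_symm (v w : Fin 2 × β → F) : f v w = - f w v := by
  have h : ∀ v u w, f v (Cfsg.Agent.H872.ten u w) = - f (Cfsg.Agent.H872.ten u w) v := by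
    intro v u w
    conv_lhs => rw [eq_sum_ten v]
    conv_rhs => rw [eq_sum_ten v]
    rw [T.f_sum_left]
    have h2 : ∀ (s : Finset (Fin 2)) (g : Fin 2 → Fin 2 × β → F) (x : Fin 2 × β → F),
        f x (∑ i ∈ s, g i) = ∑ i ∈ s, f x (g i) := by
      intro s g x
      classical
      induction s using Finset.induction_on with
      | empty => simp [T.f_zero_right]
      | insert a s ha ih => rw [Finset.sum_insert ha, Finset.sum_insert ha, T.bil.add_right, ih]
    rw [h2, ← Finset.sum_neg_distrib]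
    apply Finset.sum_congr rfl
    intro i _
    rw [T.ten, T.ten, T.sym.skew, T.qf.comm w]
    ring
  have h2 : ∀ (s : Finset (Fin 2)) (g : Fin 2 → Fin 2 × β → F) (x : Fin 2 × β → F),
      f x (∑ i ∈ s, g i) = ∑ i ∈ s, f x (g i) := by
    intro s g x
    classical
    induction s using Finset.induction_on with
    | empty => simp [T.f_zero_right]
    | insert a s ha ih => rw [Finset.sum_insert ha, Finset.sum_insert ha, T.bil.add_right, ih]
  conv_lhs => rw [eq_sum_ten w]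
  conv_rhs => rw [eq_sum_ten w]
  rw [h2, T.f_sum_left, ← Finset.sum_neg_distrib]
  exact Finset.sum_congr rfl (fun i _ => h _ _ _)

/-- A vector all of whose contractions with `s^⊥` vanish lies in `U ⊗ s`. -/
lemma exists_ten_of_R {s : β → F} (hs : s ≠ 0) {z : Fin 2 × β → F}
    (hz : ∀ b, B s b = 0 → R B b z = 0) : ∃ u, z = Cfsg.Agent.H872.ten u s := by
  obtain ⟨y, hy⟩ := T.nd s hs
  set y' := (B s y)⁻¹ • y with hy'
  have hsy : B s y' = 1 := by rw [hy', T.qf.smul_right, inv_mul_cancel₀ hy]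
  refine ⟨R B y' z, ?_⟩
  have key : ∀ b, R B b (z - Cfsg.Agent.H872.ten (R B y' z) s) = 0 := by
    intro b
    have h1 : B s (b - B s b • y') = 0 := by
      rw [T.qf.sub_right, T.qf.smul_right, hsy, mul_one, sub_self]
    have h2 := hz _ h1
    have h3 : R B (b - B s b • y') z = R B b z - B s b • R B y' z := by
      rw [sub_eq_add_neg, T.R_add, ← neg_smul, T.R_smul, neg_smul, ← sub_eq_add_neg]
    rw [h3] at h2
    rw [map_sub, T.R_ten, T.qf.comm b s]
    exact h2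
  -- all contractions vanish
  have hzero : z - Cfsg.Agent.H872.ten (R B y' z) s = 0 := by
    set z' := z - Cfsg.Agent.H872.ten (R B y' z) s
    funext ⟨i, j⟩
    obtain ⟨w, hw⟩ := T.qf.exists_rB T.nd (Pi.single j 1)
    have h4 := congrFun (key w) i
    simp only [R, rc_apply, hw, Pi.zero_apply] at h4
    rw [Finset.sum_eq_single j] at h4
    · simpa using h4
    · intro k _ hk
      rw [Pi.single_eq_of_ne hk, zero_mul]
    · intro h; exact absurd (Finset.mem_univ j) h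
  exact sub_eq_zero.mp hzero

lemma eq_zero_of_f₁ {u : Fin 2 → F} (h : ∀ u', f₁ u u' = 0) : u = 0 := by
  by_contra hu
  obtain ⟨x, hx⟩ := (T.sym.nondegenerate u hu).2
  exact hx (h x)

/-- `z ⟂ P^⊥` implies `z ∈ P` for `P = U ⊗ s`. -/
lemma exists_ten_of_perp {s : β → F} (hs : s ≠ 0) {z : Fin 2 × β → F}
    (hz : ∀ v, R B s v = 0 → f z v = 0) : ∃ u, z = Cfsg.Agent.H872.ten u s := by
  apply T.exists_ten_of_R hs
  intro b hb
  apply T.eq_zero_of_f₁
  intro u
  rw [← T.form_R]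
  apply hz
  rw [T.R_ten, hb, zero_smul]

/-- self-adjoint endomorphisms of `F²` are scalar -/
lemma scalar_of_selfAdj (γ : (Fin 2 → F) → (Fin 2 → F)) (hadd : ∀ u v, γ (u + v) = γ u + γ v)
    (h : ∀ u u', f₁ (γ u) u' = f₁ u (γ u')) : ∃ c : F, ∀ u, γ u = c • u := by
  have h0 : ∀ u, f₁ (γ u) u = 0 := by
    intro u
    have h1 := h u u
    have h2 := T.sym.skew u (γ u)
    rw [h2] at h1
    have h3 : (2 : F) * f₁ (γ u) u = 0 := by linear_combination h1
    exact (mul_eq_zero.mp h3).resolve_left T.two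
  set e : Fin 2 → F := Pi.single 0 1
  set e' : Fin 2 → F := Pi.single 1 1
  have hexp : ∀ u : Fin 2 → F, u = u 0 • e + u 1 • e' := by
    intro u
    funext i
    fin_cases i <;> simp [e, e']
  have hne : f₁ e e' ≠ 0 := by
    intro h1
    have hee : f₁ e e = 0 := T.sym.alternating e
    have : e = 0 := by
      apply T.eq_zero_of_f₁
      intro u'
      rw [hexp u', T.sym.bilinear.add_right, T.sym.bilinear.smul_right, T.sym.bilinear.smul_right, hee, h1]
      ring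
    have := congrFun this 0
    simp [e] at this
  -- γ u ∥ u
  have hpar : ∀ u v, f₁ v u = 0 → u ≠ 0 → ∃ c : F, v = c • u := by
    intro u v huv hu
    obtain ⟨w, hw⟩ := (T.sym.nondegenerate u hu).2
    refine ⟨f₁ v w / f₁ u w, ?_⟩
    have : v - (f₁ v w / f₁ u w) • u = 0 := by
      apply T.eq_zero_of_f₁
      have h5 : ∀ z, ∃ a b : F, z = a • u + b • w := by
        intro z
        -- determinant argument through coordinates
        have hd : u 0 * w 1 - u 1 * w 0 ≠ 0 := by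
          intro h6
          apply hw
          rw [hexp u, hexp w]
          simp only [T.sym.bilinear.add_left, T.sym.bilinear.add_right, T.sym.bilinear.smul_left,
            T.sym.bilinear.smul_right, T.sym.alternating, T.sym.skew e' e]
          linear_combination f₁ e e' * h6
        refine ⟨(z 0 * w 1 - z 1 * w 0) / (u 0 * w 1 - u 1 * w 0),
          (u 0 * z 1 - u 1 * z 0) / (u 0 * w 1 - u 1 * w 0), ?_⟩
        funext i
        fin_cases i
        · simp only [Fin.zero_eta, Pi.add_apply, Pi.smul_apply, smul_eq_mul]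
          rw [div_mul_eq_mul_div, div_mul_eq_mul_div, ← add_div, eq_div_iff hd]
          ring
        · simp only [Fin.mk_one, Pi.add_apply, Pi.smul_apply, smul_eq_mul]
          rw [div_mul_eq_mul_div, div_mul_eq_mul_div, ← add_div, eq_div_iff hd]
          ring
      intro z
      obtain ⟨a, b, rfl⟩ := h5 z
      have h7 : ∀ x, f₁ (v - (f₁ v w / f₁ u w) • u) x = f₁ v x - (f₁ v w / f₁ u w) * f₁ u x := by
        intro x
        rw [sub_eq_add_neg, T.sym.bilinear.add_left, ← neg_smul, T.sym.bilinear.smul_left]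
        ring
      rw [h7]
      simp only [T.sym.bilinear.add_right, T.sym.bilinear.smul_right, huv, T.sym.alternating u]
      field_simp
      ring
    exact sub_eq_zero.mp this
  have he : e ≠ 0 := fun h => hne (by rw [h, T.f₁_zero_left])
  have he' : e' ≠ 0 := fun h => hne (by rw [h]; have := T.sym.bilinear.smul_right 0 e 0; simpa using this)
  obtain ⟨c, hc⟩ := hpar e (γ e) (h0 e) he
  obtain ⟨c', hc'⟩ := hpar e' (γ e') (h0 e') he'
  have hcc : c = c' := by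
    have h1 := h e e'
    rw [hc, hc', T.sym.bilinear.smul_left, T.sym.bilinear.smul_right] at h1
    exact mul_right_cancel₀ hne h1
  subst hcc
  refine ⟨c, fun u => ?_⟩
  by_cases hu : u = 0
  · subst hu
    have := hadd 0 0
    rw [add_zero] at this
    have h1 : γ 0 = 0 := by
      have := congrArg (fun z => z - γ 0) this
      simpa using this.symm
    rw [h1, smul_zero]
  · obtain ⟨d, hd⟩ := hpar u (γ u) (h0 u) hu
    -- compare with e or e'
    rw [hd]
    by_cases hue : f₁ u e = 0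
    · have hue' : f₁ u e' ≠ 0 := by
        intro h2
        apply hu
        apply T.eq_zero_of_f₁
        intro z
        rw [hexp z, T.sym.bilinear.add_right, T.sym.bilinear.smul_right, T.sym.bilinear.smul_right, hue, h2]
        ring
      have h1 := h u e'
      rw [hd, hc', T.sym.bilinear.smul_left, T.sym.bilinear.smul_right] at h1
      rw [mul_right_cancel₀ hue' h1]
    · have h1 := h u e
      rw [hd, hc, T.sym.bilinear.smul_left, T.sym.bilinear.smul_right] at h1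
      rw [mul_right_cancel₀ hue h1]

end Tens

end Cfsg.Agent.H924.Ten
end

-- part: H924/TenCenter
section
/-!
# `Sp_2(q) ⊗ O_n(q)` in `Sp_{2n}(q)`: elements centralising `P^⊥` (helper924)
-/

set_option autoImplicit false
set_option linter.unusedSectionVars false

open Cfsg Cfsg.Geo Matrix
open scoped Kronecker

namespace Cfsg.Agent.H924.Ten

open Cfsg.Agent.H929 (QF rB)
open Cfsg.Agent.H872

theorem exists_gl_of_injective {F : Type*} [Field F] {ι : Type} [Fintype ι] [DecidableEq ι]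
    (L : (ι → F) →ₗ[F] (ι → F))
    (hL : ∀ v, L v = 0 → v = 0) : ∃ g : GL ι F, ∀ v, (g : Matrix ι ι F) *ᵥ v = L v := by
  have hinj : Function.Injective L := by
    intro v w hvw
    have := hL (v - w) (by rw [map_sub, hvw, sub_self])
    exact sub_eq_zero.mp this
  let E := LinearEquiv.ofInjectiveEndo L hinj
  have h1 : LinearMap.toMatrix' L * LinearMap.toMatrix' (E.symm : (ι → F) →ₗ[F] (ι → F)) = 1 := by
    rw [← LinearMap.toMatrix'_comp]
    have : L ∘ₗ (E.symm : (ι → F) →ₗ[F] (ι → F)) = LinearMap.id := by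
      ext1
      apply LinearMap.ext
      intro v
      show L (E.symm (Pi.single _ v)) = Pi.single _ v
      exact E.apply_symm_apply _
    rw [this, LinearMap.toMatrix'_id]
  have h2 : LinearMap.toMatrix' (E.symm : (ι → F) →ₗ[F] (ι → F)) * LinearMap.toMatrix' L = 1 :=
    mul_eq_one_comm.mp h1
  refine ⟨⟨LinearMap.toMatrix' L, _, h1, h2⟩, fun v => ?_⟩
  show LinearMap.toMatrix' L *ᵥ v = L v
  rw [← Matrix.toLin'_apply, Matrix.toLin'_toMatrix']

theorem exists_sq_add_sq {F : Type*} [Field F] [Finite F] (h2 : (2 : F) ≠ 0) (c : F) :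
    ∃ x y : F, x ^ 2 + y ^ 2 = c := by
  have := Fintype.ofFinite F
  have hodd : Fintype.card F % 2 = 1 := by
    have h3 : ringChar F ≠ 2 := by
      intro h
      apply h2
      have h4 := ringChar.Nat.cast_ringChar (R := F)
      rw [h] at h4
      exact_mod_cast h4
    exact FiniteField.odd_card_of_char_ne_two h3
  have h := FiniteField.exists_root_sum_quadratic (R := F) (f := Polynomial.X ^ 2)
    (g := Polynomial.X ^ 2 - Polynomial.C c) (Polynomial.degree_X_pow 2)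
    (Polynomial.degree_X_pow_sub_C (by decide) _) hodd
  obtain ⟨a, b, hab⟩ := h
  refine ⟨a, b, ?_⟩
  simp only [Polynomial.eval_pow, Polynomial.eval_X, Polynomial.eval_sub, Polynomial.eval_C] at hab
  linear_combination hab

variable {β : Type} [Fintype β] [DecidableEq β] {F : Type*} [Field F]
variable {f₁ : (Fin 2 → F) → (Fin 2 → F) → F} {Q : (β → F) → F} {B : (β → F) → (β → F) → F}
  {f : (Fin 2 × β → F) → (Fin 2 × β → F) → F}

/-- An overgroup of `Sp(U) ⊗ O(W)` (together with the similitudes) consisting of isometries. -/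
structure Grp (f₁ : (Fin 2 → F) → (Fin 2 → F) → F) (B : (β → F) → (β → F) → F)
    (f : (Fin 2 × β → F) → (Fin 2 × β → F) → F) (M : Subgroup (GL (Fin 2 × β) F)) : Prop where
  iso : ∀ g ∈ M, ∀ v w, f ((g : Matrix (Fin 2 × β) (Fin 2 × β) F) *ᵥ v) ((g : Matrix (Fin 2 × β) (Fin 2 × β) F) *ᵥ w) = f v w
  mem : ∀ (a : GL (Fin 2) F) (b : GL β F) (μ : F), μ ≠ 0 →
    (∀ u v, f₁ ((a : Matrix _ _ F) *ᵥ u) ((a : Matrix _ _ F) *ᵥ v) = μ * f₁ u v) →
    (∀ x y, B ((b : Matrix _ _ F) *ᵥ x) ((b : Matrix _ _ F) *ᵥ y) = μ⁻¹ * B x y) → kr (a, b) ∈ M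

/-- `g` is the central element `v ↦ v + ξ(R s v) ⊗ s`. -/
def Zel (B : (β → F) → (β → F) → F) (s : β → F) (ξ : (Fin 2 → F) →ₗ[F] (Fin 2 → F))
    (g : GL (Fin 2 × β) F) : Prop :=
  ∀ v, (g : Matrix (Fin 2 × β) (Fin 2 × β) F) *ᵥ v = v + ten (ξ (R B s v)) s

/-- transvection of `U` as a linear map `u ↦ c f₁(u, e) e` -/
def tl (T : IsSymplecticForm f₁) (c : F) (e : Fin 2 → F) : (Fin 2 → F) →ₗ[F] (Fin 2 → F) where
  toFun u := (c * f₁ u e) • e
  map_add' u v := by rw [T.bilinear.add_left, mul_add, add_smul]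
  map_smul' d u := by
    rw [T.bilinear.smul_left, RingHom.id_apply, smul_smul]
    congr 1
    ring

lemma tl_apply (T : IsSymplecticForm f₁) (c : F) (e u : Fin 2 → F) : tl T c e u = (c * f₁ u e) • e := rfl

lemma tl_add (T : IsSymplecticForm f₁) (c d : F) (e : Fin 2 → F) : tl T c e + tl T d e = tl T (c + d) e := by
  apply LinearMap.ext
  intro u
  rw [LinearMap.add_apply, tl_apply, tl_apply, tl_apply, add_mul, add_smul]

lemma tl_smul_vec (T : IsSymplecticForm f₁) (c d : F) (e : Fin 2 → F) : tl T c (d • e) = tl T (d ^ 2 * c) e := by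
  apply LinearMap.ext
  intro u
  rw [tl_apply, tl_apply, T.bilinear.smul_right, smul_smul]
  congr 1
  ring

lemma exists_tU (T : IsSymplecticForm f₁) (c : F) (e : Fin 2 → F) :
    ∃ a : GL (Fin 2) F, (∀ u, (a : Matrix _ _ F) *ᵥ u = u + (c * f₁ u e) • e) ∧
      ∀ u v, f₁ ((a : Matrix _ _ F) *ᵥ u) ((a : Matrix _ _ F) *ᵥ v) = f₁ u v := by
  obtain ⟨a, ha⟩ := exists_gl_of_injective (LinearMap.id + tl T c e) (by
    intro u hu
    rw [LinearMap.add_apply, LinearMap.id_apply, tl_apply] at hu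
    have h1 : f₁ (u + (c * f₁ u e) • e) e = 0 := by
      rw [hu]
      have := T.bilinear.smul_left 0 0 e
      simpa using this
    rw [T.bilinear.add_left, T.bilinear.smul_left, T.alternating e, mul_zero, add_zero] at h1
    rw [h1] at hu
    simpa using hu)
  have ha' : ∀ u, (a : Matrix _ _ F) *ᵥ u = u + (c * f₁ u e) • e := by
    intro u; rw [ha, LinearMap.add_apply, LinearMap.id_apply, tl_apply]
  refine ⟨a, ha', fun u v => ?_⟩
  rw [ha', ha', T.bilinear.add_left, T.bilinear.add_right, T.bilinear.add_right, T.bilinear.smul_left,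
    T.bilinear.smul_left, T.bilinear.smul_right, T.bilinear.smul_right, T.alternating e, T.skew e v]
  ring

/-- `Sp(U)` is transitive on nonzero vectors. -/
lemma exists_map (T : IsSymplecticForm f₁) {e e' : Fin 2 → F} (he : e ≠ 0) (he' : e' ≠ 0) :
    ∃ a : GL (Fin 2) F, (a : Matrix _ _ F) *ᵥ e = e' ∧
      ∀ u v, f₁ ((a : Matrix _ _ F) *ᵥ u) ((a : Matrix _ _ F) *ᵥ v) = f₁ u v := by
  have step : ∀ {e e' : Fin 2 → F}, f₁ e e' ≠ 0 → ∃ a : GL (Fin 2) F, (a : Matrix _ _ F) *ᵥ e = e' ∧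
      ∀ u v, f₁ ((a : Matrix _ _ F) *ᵥ u) ((a : Matrix _ _ F) *ᵥ v) = f₁ u v := by
    intro e e' h
    obtain ⟨a, ha, hiso⟩ := exists_tU T (f₁ e e')⁻¹ (e' - e)
    refine ⟨a, ?_, hiso⟩
    rw [ha, sub_eq_add_neg, T.bilinear.add_right]
    have : f₁ e (-e) = 0 := by
      have := T.bilinear.smul_right (-1) e e
      rw [T.alternating e, mul_zero] at this
      simpa using this
    rw [this, add_zero, inv_mul_cancel₀ h, one_smul]
    abel
  by_cases h : f₁ e e' = 0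
  · obtain ⟨x, hx⟩ := (T.nondegenerate e he).2
    obtain ⟨y, hy⟩ := (T.nondegenerate e' he').1
    obtain ⟨z, hz1, hz2⟩ : ∃ z, f₁ e z ≠ 0 ∧ f₁ z e' ≠ 0 := by
      by_cases h1 : f₁ x e' = 0
      · by_cases h2 : f₁ e y = 0
        · refine ⟨x + y, ?_, ?_⟩
          · rw [T.bilinear.add_right, h2, add_zero]; exact hx
          · rw [T.bilinear.add_left, h1, zero_add]; exact hy
        · exact ⟨y, h2, hy⟩
      · exact ⟨x, hx, h1⟩
    obtain ⟨a, ha, ha'⟩ := step hz1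
    obtain ⟨b, hb, hb'⟩ := step hz2
    refine ⟨b * a, ?_, ?_⟩
    · rw [Units.val_mul, ← Matrix.mulVec_mulVec, ha, hb]
    · intro u v
      rw [Units.val_mul, ← Matrix.mulVec_mulVec, ← Matrix.mulVec_mulVec, hb', ha']
  · exact step h

namespace Tens

variable (T : Tens f₁ Q B f) {M : Subgroup (GL (Fin 2 × β) F)} (hM : Grp f₁ B f M)

include T

lemma kr_one_mem (hM : Grp f₁ B f M) {a : GL (Fin 2) F}
    (ha : ∀ u v, f₁ ((a : Matrix _ _ F) *ᵥ u) ((a : Matrix _ _ F) *ᵥ v) = f₁ u v) : kr (a, (1 : GL β F)) ∈ M :=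
  hM.mem a 1 1 one_ne_zero (by intro u v; rw [ha, one_mul]) (by intro x y; simp)

lemma one_kr_mem (hM : Grp f₁ B f M) {b : GL β F}
    (hb : ∀ x y, B ((b : Matrix _ _ F) *ᵥ x) ((b : Matrix _ _ F) *ᵥ y) = B x y) : kr ((1 : GL (Fin 2) F), b) ∈ M :=
  hM.mem 1 b 1 one_ne_zero (by intro u v; simp) (by intro x y; rw [hb]; simp)

lemma R_self {s : β → F} (hs : Q s = 0) (u : Fin 2 → F) : R B s (Cfsg.Agent.H872.ten u s) = 0 := by
  rw [T.R_ten, T.qf.self, hs, mul_zero, zero_smul]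

lemma R_kr (w : β → F) (a : GL (Fin 2) F) (v : Fin 2 × β → F) :
    R B w ((kr (a, (1 : GL β F)) : Matrix (Fin 2 × β) (Fin 2 × β) F) *ᵥ v) = (a : Matrix _ _ F) *ᵥ (R B w v) := by
  rw [R, coe_kr, rc_kron]
  simp

/-- An isometry which fixes `P^⊥` pointwise is a central element. -/
lemma exists_zel {s : β → F} (hs : s ≠ 0) (hQs : Q s = 0) {g : GL (Fin 2 × β) F}
    (hg : ∀ v w, f ((g : Matrix (Fin 2 × β) (Fin 2 × β) F) *ᵥ v) ((g : Matrix (Fin 2 × β) (Fin 2 × β) F) *ᵥ w) = f v w)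
    (hfix : ∀ v, R B s v = 0 → (g : Matrix (Fin 2 × β) (Fin 2 × β) F) *ᵥ v = v) :
    ∃ ξ : (Fin 2 → F) →ₗ[F] (Fin 2 → F), (∀ u u', f₁ (ξ u) u' = - f₁ u (ξ u')) ∧ Zel B s ξ g := by
  obtain ⟨y₀, hy₀⟩ := T.nd s hs
  set y := (B s y₀)⁻¹ • y₀ with hy
  have hsy : B s y = 1 := by rw [hy, T.qf.smul_right, inv_mul_cancel₀ hy₀]
  have hys : B y s = 1 := by rw [T.qf.comm, hsy]
  have hss : B s s = 0 := by rw [T.qf.self, hQs, mul_zero]
  -- `ten · y` as a linear map
  let ty : (Fin 2 → F) →ₗ[F] (Fin 2 × β → F) :=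
    { toFun := fun u => Cfsg.Agent.H872.ten u y
      map_add' := fun u v => ten_add_left u v y
      map_smul' := fun c u => ten_smul_left c u y }
  let ξ : (Fin 2 → F) →ₗ[F] (Fin 2 → F) :=
    (R B y) ∘ₗ ((Matrix.toLin' (g : Matrix (Fin 2 × β) (Fin 2 × β) F) - LinearMap.id) ∘ₗ ty)
  have hξ : ∀ u, ξ u = R B y ((g : Matrix (Fin 2 × β) (Fin 2 × β) F) *ᵥ (Cfsg.Agent.H872.ten u y) - Cfsg.Agent.H872.ten u y) := by
    intro u
    simp [ξ, ty, Matrix.toLin'_apply]
  have hperp : ∀ u, ∃ u', (g : Matrix (Fin 2 × β) (Fin 2 × β) F) *ᵥ (Cfsg.Agent.H872.ten u y) - Cfsg.Agent.H872.ten u y =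
      Cfsg.Agent.H872.ten u' s := by
    intro u
    apply T.exists_ten_of_perp hs
    intro v hv
    have h1 := hg (Cfsg.Agent.H872.ten u y) v
    rw [hfix v hv] at h1
    rw [sub_eq_add_neg, T.bil.add_left, h1]
    have := T.bil.smul_left (-1) (Cfsg.Agent.H872.ten u y) v
    rw [neg_one_smul] at this
    rw [this]; ring
  have hgy : ∀ u, (g : Matrix (Fin 2 × β) (Fin 2 × β) F) *ᵥ (Cfsg.Agent.H872.ten u y) =
      Cfsg.Agent.H872.ten u y + Cfsg.Agent.H872.ten (ξ u) s := by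
    intro u
    obtain ⟨u', hu'⟩ := hperp u
    rw [hξ, hu', T.R_ten, hys, one_smul, ← hu']
    abel
  refine ⟨ξ, ?_, ?_⟩
  · intro u u'
    have h1 := hg (Cfsg.Agent.H872.ten u y) (Cfsg.Agent.H872.ten u' y)
    rw [hgy, hgy, T.bil.add_left, T.bil.add_right, T.bil.add_right, T.ten, T.ten, T.ten, T.ten, hsy, hys, hss] at h1
    linear_combination h1
  · intro v
    have h1 : R B s (v - Cfsg.Agent.H872.ten (R B s v) y) = 0 := by
      rw [map_sub, T.R_ten, hsy, one_smul, sub_self]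
    have h2 := hfix _ h1
    rw [Matrix.mulVec_sub, hgy] at h2
    have h3 : (g : Matrix (Fin 2 × β) (Fin 2 × β) F) *ᵥ v = v - Cfsg.Agent.H872.ten (R B s v) y +
        (Cfsg.Agent.H872.ten (R B s v) y + Cfsg.Agent.H872.ten (ξ (R B s v)) s) := by
      rw [← h2]; abel
    rw [h3]; abel

lemma zel_mul {s : β → F} (hQs : Q s = 0) {ξ ξ' : (Fin 2 → F) →ₗ[F] (Fin 2 → F)} {g g' : GL (Fin 2 × β) F}
    (h : Zel B s ξ g) (h' : Zel B s ξ' g') : Zel B s (ξ + ξ') (g * g') := by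
  intro v
  rw [Units.val_mul, ← Matrix.mulVec_mulVec, h' v, Matrix.mulVec_add, h, h, T.R_self hQs, map_zero]
  have h0 : Cfsg.Agent.H872.ten (0 : Fin 2 → F) s = 0 := ten_zero_left s
  rw [h0, LinearMap.add_apply, ten_add_left]
  abel

lemma zel_inv {s : β → F} (hQs : Q s = 0) {ξ : (Fin 2 → F) →ₗ[F] (Fin 2 → F)} {g : GL (Fin 2 × β) F}
    (h : Zel B s ξ g) : Zel B s (-ξ) g⁻¹ := by
  intro v
  have h1 : (g : Matrix (Fin 2 × β) (Fin 2 × β) F) *ᵥ (v + Cfsg.Agent.H872.ten ((-ξ) (R B s v)) s) = v := by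
    rw [Matrix.mulVec_add, h, h, T.R_self hQs, map_zero, ten_zero_left, LinearMap.neg_apply, ten_neg_left]
    abel
  calc ((g⁻¹ : GL (Fin 2 × β) F) : Matrix (Fin 2 × β) (Fin 2 × β) F) *ᵥ v
      = ((g⁻¹ : GL (Fin 2 × β) F) : Matrix (Fin 2 × β) (Fin 2 × β) F) *ᵥ ((g : Matrix (Fin 2 × β) (Fin 2 × β) F) *ᵥ
          (v + Cfsg.Agent.H872.ten ((-ξ) (R B s v)) s)) := by rw [h1]
    _ = _ := by rw [Matrix.mulVec_mulVec, ← Units.val_mul, inv_mul_cancel, Units.val_one, Matrix.one_mulVec]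

/-- conjugation by `a ⊗ 1` -/
lemma zel_conj {s : β → F} {ξ ξ' : (Fin 2 → F) →ₗ[F] (Fin 2 → F)} {g : GL (Fin 2 × β) F}
    (h : Zel B s ξ g) (a : GL (Fin 2) F) (hξ : ∀ u, ξ' ((a : Matrix _ _ F) *ᵥ u) = (a : Matrix _ _ F) *ᵥ (ξ u)) :
    Zel B s ξ' (kr (a, (1 : GL β F)) * g * (kr (a, (1 : GL β F)))⁻¹) := by
  intro v
  set w := (((kr (a, (1 : GL β F)))⁻¹ : GL (Fin 2 × β) F) : Matrix (Fin 2 × β) (Fin 2 × β) F) *ᵥ v with hw
  have hv : v = (kr (a, (1 : GL β F)) : Matrix (Fin 2 × β) (Fin 2 × β) F) *ᵥ w := by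
    rw [hw, Matrix.mulVec_mulVec, ← Units.val_mul, mul_inv_cancel, Units.val_one, Matrix.one_mulVec]
  rw [Units.val_mul, Units.val_mul, ← Matrix.mulVec_mulVec, ← Matrix.mulVec_mulVec, ← hw, h w, Matrix.mulVec_add,
    ← hv]
  congr 1
  rw [kr_mulVec_ten]
  conv_rhs => rw [hv]
  rw [T.R_kr, hξ]
  simp

end Tens

end Cfsg.Agent.H924.Ten
end

-- part: H924/TenTrans
section
/-!
# `Sp_2(q) ⊗ O_n(q)` in `Sp_{2n}(q)`: central elements give transvections (helper924)
-/

set_option autoImplicit false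
set_option linter.unusedSectionVars false

open Cfsg Cfsg.Geo Matrix
open scoped Kronecker

namespace Cfsg.Agent.H924.Ten

open Cfsg.Agent.H929 (QF rB)
open Cfsg.Agent.H872

variable {β : Type} [Fintype β] [DecidableEq β] {F : Type*} [Field F]
variable {f₁ : (Fin 2 → F) → (Fin 2 → F) → F} {Q : (β → F) → F} {B : (β → F) → (β → F) → F}
  {f : (Fin 2 × β → F) → (Fin 2 × β → F) → F}

namespace Tens

variable (T : Tens f₁ Q B f) {M : Subgroup (GL (Fin 2 × β) F)} (hM : Grp f₁ B f M)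

include T

lemma B_eq (x y : β → F) : B x y = QuadraticMap.polar Q x y := by
  unfold QuadraticMap.polar
  rw [T.qf.add]; ring

lemma hQ : IsNondegenerateQuadraticForm Q where
  smul := T.qf.smul
  polar_bilinear :=
    { add_left := fun x y v => by rw [← T.B_eq, ← T.B_eq, ← T.B_eq]; exact T.qf.add_left x y v
      smul_left := fun c x v => by rw [← T.B_eq, ← T.B_eq]; exact T.qf.smul_left c x v
      add_right := fun v x y => by rw [← T.B_eq, ← T.B_eq, ← T.B_eq]; exact T.qf.add_right v x y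
      smul_right := fun c v x => by rw [← T.B_eq, ← T.B_eq]; exact T.qf.smul_right c v x }
  nondegenerate := fun v hv => by
    obtain ⟨y, hy⟩ := T.nd v hv
    exact ⟨⟨y, by rw [← T.B_eq, T.qf.comm]; exact hy⟩, ⟨y, by rw [← T.B_eq]; exact hy⟩⟩

/-- isometries of `Q` preserve `B` -/
lemma B_iso {b : GL β F} (hb : ∀ x, Q ((b : Matrix β β F) *ᵥ x) = Q x) (x y : β → F) :
    B ((b : Matrix β β F) *ᵥ x) ((b : Matrix β β F) *ᵥ y) = B x y := by
  rw [T.B_eq, T.B_eq, QuadraticMap.polar, QuadraticMap.polar, ← Matrix.mulVec_add, hb, hb, hb]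

/-- the orthogonal group is transitive on vectors of given norm -/
lemma exists_map_sing [Finite F] (hβ : 5 ≤ Fintype.card β) {s s' : β → F} (hs : s ≠ 0) (hs' : s' ≠ 0)
    (h : Q s = Q s') : ∃ b : GL β F, (∀ x, Q ((b : Matrix β β F) *ᵥ x) = Q x) ∧
      (b : Matrix β β F) *ᵥ s = s' := by
  obtain ⟨b, hb, hbs⟩ := Cfsg.Agent.H925.exists_trans T.hQ hβ hs hs' h
  exact ⟨b, Cfsg.Agent.H925.mem_iso_iff.mp (Cfsg.Agent.H925.omegaGL_le_iso Q hb), hbs⟩

lemma exists_skew_ne {ξ : (Fin 2 → F) →ₗ[F] (Fin 2 → F)} (hξ : ∀ u u', f₁ (ξ u) u' = - f₁ u (ξ u'))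
    (h0 : ξ ≠ 0) : ∃ e, f₁ (ξ e) e ≠ 0 := by
  by_contra hcon
  push Not at hcon
  apply h0
  apply LinearMap.ext
  intro e
  rw [LinearMap.zero_apply]
  apply T.eq_zero_of_f₁
  intro e'
  have h1 := hcon (e + e')
  rw [map_add, T.sym.bilinear.add_left, T.sym.bilinear.add_right, T.sym.bilinear.add_right, hcon e, hcon e',
    hξ e' e, T.sym.skew e' (ξ e)] at h1
  have h2 : (2 : F) * f₁ (ξ e) e' = 0 := by linear_combination h1
  exact (mul_eq_zero.mp h2).resolve_left T.two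

/-- a nontrivial central element gives the transvections of the group `R_s` -/
lemma zel_tl [Finite F] (hM : Grp f₁ B f M) {s : β → F} (hQs : Q s = 0)
    {g : GL (Fin 2 × β) F} (hg : g ∈ M) {ξ : (Fin 2 → F) →ₗ[F] (Fin 2 → F)}
    (hξ : ∀ u u', f₁ (ξ u) u' = - f₁ u (ξ u')) (h0 : ξ ≠ 0) (hz : Zel B s ξ g) (c : F) (e : Fin 2 → F) :
    ∃ g' ∈ M, Zel B s (tl T.sym c e) g' := by
  -- closure properties
  have hadd : ∀ ξ ξ' : (Fin 2 → F) →ₗ[F] (Fin 2 → F), (∃ g' ∈ M, Zel B s ξ g') → (∃ g' ∈ M, Zel B s ξ' g') →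
      ∃ g' ∈ M, Zel B s (ξ + ξ') g' := by
    rintro ξ ξ' ⟨g, hg, h⟩ ⟨g', hg', h'⟩
    exact ⟨g * g', M.mul_mem hg hg', T.zel_mul hQs h h'⟩
  have hneg : ∀ ξ : (Fin 2 → F) →ₗ[F] (Fin 2 → F), (∃ g' ∈ M, Zel B s ξ g') → ∃ g' ∈ M, Zel B s (-ξ) g' := by
    rintro ξ ⟨g, hg, h⟩
    exact ⟨g⁻¹, M.inv_mem hg, T.zel_inv hQs h⟩
  have hconj : ∀ (ξ ξ' : (Fin 2 → F) →ₗ[F] (Fin 2 → F)) (a : GL (Fin 2) F),
      (∀ u v, f₁ ((a : Matrix _ _ F) *ᵥ u) ((a : Matrix _ _ F) *ᵥ v) = f₁ u v) →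
      (∀ u, ξ' ((a : Matrix _ _ F) *ᵥ u) = (a : Matrix _ _ F) *ᵥ (ξ u)) →
      (∃ g' ∈ M, Zel B s ξ g') → ∃ g' ∈ M, Zel B s ξ' g' := by
    rintro ξ ξ' a ha hξξ ⟨g, hg, h⟩
    exact ⟨_, M.mul_mem (M.mul_mem (T.kr_one_mem hM ha) hg) (M.inv_mem (T.kr_one_mem hM ha)), T.zel_conj h a hξξ⟩
  obtain ⟨e₀, he₀⟩ := T.exists_skew_ne hξ h0
  have he₀0 : e₀ ≠ 0 := by
    rintro rfl
    apply he₀
    have := T.sym.bilinear.smul_right 0 (ξ 0) 0
    simpa using this
  -- the element `a ξ a⁻¹` for a transvection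
  have h1 : ∀ t : F, t ^ 2 = 1 → ∃ g' ∈ M, Zel B s
      (ξ - t • ((ξ ∘ₗ (tl T.sym 1 e₀)) - (tl T.sym 1 e₀) ∘ₗ ξ) - (tl T.sym (f₁ (ξ e₀) e₀) e₀)) g' := by
    intro t ht
    obtain ⟨a, ha, hiso⟩ := exists_tU T.sym t e₀
    refine hconj ξ _ a hiso ?_ ⟨g, hg, hz⟩
    intro u
    rw [ha, ha]
    simp only [LinearMap.sub_apply, LinearMap.smul_apply, LinearMap.comp_apply, tl_apply, map_add, map_smul,
      T.sym.bilinear.add_left, T.sym.bilinear.smul_left, T.sym.alternating e₀, mul_zero, add_zero, one_mul]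
    simp only [smul_sub, sub_smul, smul_smul, smul_add, add_smul]
    have e1 : t * f₁ u e₀ * (t * f₁ (ξ e₀) e₀) = f₁ (ξ e₀) e₀ * f₁ u e₀ := by
      linear_combination f₁ u e₀ * f₁ (ξ e₀) e₀ * ht
    rw [e1]
    simp only [mul_zero, zero_smul]
    abel
  obtain ⟨g1, hg1, hz1⟩ := h1 1 (by ring)
  obtain ⟨g2, hg2, hz2⟩ := h1 (-1) (by ring)
  have h3 : ∃ g' ∈ M, Zel B s (tl T.sym (-2 * f₁ (ξ e₀) e₀) e₀) g' := by
    have h4 := hadd _ _ (hadd _ _ ⟨g1, hg1, hz1⟩ ⟨g2, hg2, hz2⟩) (hadd _ _ (hneg _ ⟨g, hg, hz⟩) (hneg _ ⟨g, hg, hz⟩))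
    convert h4 using 3
    rename_i g'
    congr 1
    rw [show (-2 * f₁ (ξ e₀) e₀) = -f₁ (ξ e₀) e₀ + -f₁ (ξ e₀) e₀ by ring, ← tl_add]
    have h5 : tl T.sym (-f₁ (ξ e₀) e₀) e₀ = - tl T.sym (f₁ (ξ e₀) e₀) e₀ := by
      apply LinearMap.ext
      intro u
      rw [LinearMap.neg_apply, tl_apply, tl_apply, neg_mul, neg_smul]
    have h6 : ∀ X : (Fin 2 → F) →ₗ[F] (Fin 2 → F), (-1 : F) • X = -X := fun X => by
      apply LinearMap.ext
      intro u
      rw [LinearMap.smul_apply, LinearMap.neg_apply, neg_smul, one_smul]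
    rw [h5, one_smul, h6]
    congr! 1
    abel
  set c₀ := -2 * f₁ (ξ e₀) e₀ with hc₀
  have hc₀0 : c₀ ≠ 0 := mul_ne_zero (neg_ne_zero.mpr T.two) he₀
  have h6 : ∀ e' : Fin 2 → F, ∃ g' ∈ M, Zel B s (tl T.sym c₀ e') g' := by
    intro e'
    by_cases he' : e' = 0
    · refine ⟨1, M.one_mem, ?_⟩
      intro v
      rw [tl_apply, he', smul_zero, ten_zero_left, add_zero, Units.val_one, Matrix.one_mulVec]
    · obtain ⟨a, ha, hiso⟩ := exists_map T.sym he₀0 he'
      refine hconj _ _ a hiso ?_ h3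
      intro u
      rw [tl_apply, tl_apply, ← ha, hiso, Matrix.mulVec_smul]
  obtain ⟨x, y, hxy⟩ := exists_sq_add_sq T.two (c / c₀)
  have h7 := hadd _ _ (h6 (x • e)) (h6 (y • e))
  rw [tl_smul_vec, tl_smul_vec, tl_add, ← add_mul, hxy, div_mul_cancel₀ _ hc₀0] at h7
  exact h7

/-- **Lemma A**: a nontrivial element of `M` fixing `P_s^⊥` pointwise gives all transvections. -/
theorem transvections [Finite F] (hβ : 5 ≤ Fintype.card β) (hM : Grp f₁ B f M) {s : β → F} (hs : s ≠ 0)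
    (hQs : Q s = 0) {g : GL (Fin 2 × β) F} (hg : g ∈ M) (hg1 : g ≠ 1)
    (hfix : ∀ v, R B s v = 0 → (g : Matrix (Fin 2 × β) (Fin 2 × β) F) *ᵥ v = v)
    (c : F) (u : Fin 2 → F) (s' : β → F) (hs' : Q s' = 0) :
    ∃ g' ∈ M, ∀ v, (g' : Matrix (Fin 2 × β) (Fin 2 × β) F) *ᵥ v =
      v + (c * f v (Cfsg.Agent.H872.ten u s')) • Cfsg.Agent.H872.ten u s' := by
  by_cases hs'0 : s' = 0
  · refine ⟨1, M.one_mem, fun v => ?_⟩
    rw [hs'0, ten_zero_right, smul_zero, add_zero, Units.val_one, Matrix.one_mulVec]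
  obtain ⟨ξ, hξ, hz⟩ := T.exists_zel hs hQs (hM.iso g hg) hfix
  have hξ0 : ξ ≠ 0 := by
    rintro rfl
    apply hg1
    apply gl_ext_ten
    intro u w
    rw [hz, LinearMap.zero_apply, ten_zero_left, add_zero, Units.val_one, Matrix.one_mulVec]
  obtain ⟨g₁, hg₁, hz₁⟩ := T.zel_tl hM hQs hg hξ hξ0 hz c u
  obtain ⟨b, hb, hbs⟩ := T.exists_map_sing hβ hs hs'0 (by rw [hQs, hs'])
  have hk := T.one_kr_mem hM (T.B_iso hb)
  set k := kr ((1 : GL (Fin 2) F), b) with hkdef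
  refine ⟨k * g₁ * k⁻¹, M.mul_mem (M.mul_mem hk hg₁) (M.inv_mem hk), ?_⟩
  intro v
  set w := ((k⁻¹ : GL (Fin 2 × β) F) : Matrix (Fin 2 × β) (Fin 2 × β) F) *ᵥ v with hw
  have hv : v = (k : Matrix (Fin 2 × β) (Fin 2 × β) F) *ᵥ w := by
    rw [hw, Matrix.mulVec_mulVec, ← Units.val_mul, mul_inv_cancel, Units.val_one, Matrix.one_mulVec]
  have hkt : (k : Matrix (Fin 2 × β) (Fin 2 × β) F) *ᵥ Cfsg.Agent.H872.ten u s = Cfsg.Agent.H872.ten u s' := by
    rw [hkdef, kr_mulVec_ten, hbs, Units.val_one, Matrix.one_mulVec]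
  rw [Units.val_mul, Units.val_mul, ← Matrix.mulVec_mulVec, ← Matrix.mulVec_mulVec, ← hw, hz₁ w, Matrix.mulVec_add,
    ← hv, tl_apply, ten_smul_left, Matrix.mulVec_smul, hkt, ← T.form_R]
  have h8 : f w (Cfsg.Agent.H872.ten u s) = f v (Cfsg.Agent.H872.ten u s') := by
    rw [hv, ← hkt, hM.iso k hk]
  rw [h8]

end Tens

end Cfsg.Agent.H924.Ten
end

-- part: H924/TenLevi
section
/-!
# `Sp_2(q) ⊗ O_n(q)` in `Sp_{2n}(q)`: the unipotent radical (helper924)
-/

set_option autoImplicit false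
set_option linter.unusedSectionVars false

open Cfsg Cfsg.Geo Matrix
open scoped Kronecker

namespace Cfsg.Agent.H924.Ten

open Cfsg.Agent.H929 (QF rB)
open Cfsg.Agent.H872

variable {β : Type} [Fintype β] [DecidableEq β] {F : Type*} [Field F]
variable {f₁ : (Fin 2 → F) → (Fin 2 → F) → F} {Q : (β → F) → F} {B : (β → F) → (β → F) → F}
  {f : (Fin 2 × β → F) → (Fin 2 × β → F) → F}

/-- the Siegel map on `W` -/
def Sieg (Q : (β → F) → F) (B : (β → F) → (β → F) → F) (s a : β → F) (h : GL β F) : Prop :=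
  ∀ x, (h : Matrix β β F) *ᵥ x = x + B x s • a - B x a • s - (Q a * B x s) • s

/-- no nontrivial element of `M` fixes `P_s^⊥` pointwise -/
def NoC (B : (β → F) → (β → F) → F) (M : Subgroup (GL (Fin 2 × β) F)) (s : β → F) : Prop :=
  ∀ g ∈ M, (∀ v, R B s v = 0 → (g : Matrix (Fin 2 × β) (Fin 2 × β) F) *ᵥ v = v) → g = 1

namespace Tens

variable (T : Tens f₁ Q B f) {M : Subgroup (GL (Fin 2 × β) F)} (hM : Grp f₁ B f M)

include T

lemma exists_sieg {s a : β → F} (hQs : Q s = 0) (hsa : B s a = 0) :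
    ∃ h : GL β F, Sieg Q B s a h ∧ ∀ x, Q ((h : Matrix β β F) *ᵥ x) = Q x := by
  obtain ⟨h, _, h1, h2⟩ := T.qf.exists_siegel hQs hsa
  exact ⟨h, h1, h2⟩

lemma R_zero (v : Fin 2 × β → F) : R B 0 v = 0 := by
  have := T.R_smul 0 0 v
  simpa using this

lemma R_neg (w : β → F) (v : Fin 2 × β → F) : R B (-w) v = - R B w v := by
  have := T.R_smul (-1) w v
  simpa using this

lemma R_coord (w : β → F) (v : Fin 2 × β → F) (i : Fin 2) : R B w v i = B w (fun j => v (i, j)) := by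
  rw [R, rc_apply, ← T.qf.rB_dot]
  rfl

/-- action of `1 ⊗ h` for a Siegel transformation -/
lemma kr_sieg {s a : β → F} {h : GL β F} (hh : Sieg Q B s a h) (v : Fin 2 × β → F) :
    (kr ((1 : GL (Fin 2) F), h) : Matrix (Fin 2 × β) (Fin 2 × β) F) *ᵥ v =
      v + Cfsg.Agent.H872.ten (R B s v) a - Cfsg.Agent.H872.ten (R B a v) s
        - Q a • Cfsg.Agent.H872.ten (R B s v) s := by
  let A : (Fin 2 × β → F) →ₗ[F] (Fin 2 × β → F) :=
    Matrix.toLin' (kr ((1 : GL (Fin 2) F), h) : Matrix (Fin 2 × β) (Fin 2 × β) F)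
  let L : (β → F) → (Fin 2 × β → F) →ₗ[F] (Fin 2 × β → F) := fun w =>
    { toFun := fun v => Cfsg.Agent.H872.ten (R B s v) w
      map_add' := fun x y => by rw [map_add, ten_add_left]
      map_smul' := fun c x => by rw [map_smul, ten_smul_left, RingHom.id_apply] }
  let L' : (Fin 2 × β → F) →ₗ[F] (Fin 2 × β → F) :=
    { toFun := fun v => Cfsg.Agent.H872.ten (R B a v) s
      map_add' := fun x y => by rw [map_add, ten_add_left]
      map_smul' := fun c x => by rw [map_smul, ten_smul_left, RingHom.id_apply] }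
  have key : A = LinearMap.id + L a - L' - Q a • L s := by
    apply linearMap_ext_ten
    intro u w
    show (kr ((1 : GL (Fin 2) F), h) : Matrix (Fin 2 × β) (Fin 2 × β) F) *ᵥ Cfsg.Agent.H872.ten u w =
      Cfsg.Agent.H872.ten u w + Cfsg.Agent.H872.ten (R B s (Cfsg.Agent.H872.ten u w)) a
        - Cfsg.Agent.H872.ten (R B a (Cfsg.Agent.H872.ten u w)) s
        - Q a • Cfsg.Agent.H872.ten (R B s (Cfsg.Agent.H872.ten u w)) s
    rw [kr_mulVec_ten, Units.val_one, Matrix.one_mulVec, T.R_ten, T.R_ten]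
    show Cfsg.Agent.H872.ten u ((h : Matrix β β F) *ᵥ w) = _
    rw [hh w, T.qf.comm s w, T.qf.comm a w]
    funext p
    simp only [ten_apply, Pi.add_apply, Pi.sub_apply, Pi.smul_apply, smul_eq_mul]
    ring
  have := congrArg (fun X : (Fin 2 × β → F) →ₗ[F] (Fin 2 × β → F) => X v) key
  exact this

/-- linear maps agreeing on `U ⊗ s^⊥` -/
lemma ext_perp {V' : Type*} [AddCommGroup V'] [Module F V'] {s : β → F}
    {X Y : (Fin 2 × β → F) →ₗ[F] V'} (h : ∀ u a, B s a = 0 → X (Cfsg.Agent.H872.ten u a) = Y (Cfsg.Agent.H872.ten u a))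
    {v : Fin 2 × β → F} (hv : R B s v = 0) : X v = Y v := by
  rw [eq_sum_ten v, map_sum, map_sum]
  apply Finset.sum_congr rfl
  intro i _
  apply h
  rw [← T.R_coord, hv]
  rfl

/-- contraction on the left factor against `B a` -/
lemma B_lc (a : β → F) (φ : Fin 2 → F) (v : Fin 2 × β → F) : B a (lc φ v) = φ ⬝ᵥ (R B a v) := by
  conv_lhs => rw [eq_sum_ten v]
  conv_rhs => rw [eq_sum_ten v]
  rw [map_sum, map_sum, T.qf.sum_right, dotProduct_sum]
  apply Finset.sum_congr rfl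
  intro i _
  rw [lc_ten, T.R_ten, T.qf.smul_right, dotProduct_smul, smul_eq_mul, mul_comm]

lemma ten_fixed_perp {s : β → F} {g : GL (Fin 2 × β) F}
    (hg : ∀ v w, f ((g : Matrix (Fin 2 × β) (Fin 2 × β) F) *ᵥ v) ((g : Matrix (Fin 2 × β) (Fin 2 × β) F) *ᵥ w) = f v w)
    {g₁ : GL (Fin 2) F}
    (hs : ∀ u, (g : Matrix (Fin 2 × β) (Fin 2 × β) F) *ᵥ (Cfsg.Agent.H872.ten u s) =
      Cfsg.Agent.H872.ten ((g₁ : Matrix _ _ F) *ᵥ u) s) (v : Fin 2 × β → F)
    (hv : R B s v = 0) : R B s ((g : Matrix (Fin 2 × β) (Fin 2 × β) F) *ᵥ v) = 0 := by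
  apply T.eq_zero_of_f₁
  intro u
  rw [← T.form_R]
  have h1 : u = (g₁ : Matrix _ _ F) *ᵥ (((g₁⁻¹ : GL (Fin 2) F) : Matrix (Fin 2) (Fin 2) F) *ᵥ u) := by
    rw [Matrix.mulVec_mulVec, ← Units.val_mul, mul_inv_cancel, Units.val_one, Matrix.one_mulVec]
  rw [h1, ← hs, hg, T.form_R, hv, T.f₁_zero_left]

/-- **Lemma B**. -/
theorem levi (hM : Grp f₁ B f M) {s : β → F} (hs : s ≠ 0) (hQs : Q s = 0) (hnc : NoC B M s)
    {g : GL (Fin 2 × β) F} (hg : g ∈ M)
    (hP : ∀ u, (g : Matrix (Fin 2 × β) (Fin 2 × β) F) *ᵥ (Cfsg.Agent.H872.ten u s) = Cfsg.Agent.H872.ten u s)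
    (hPP : ∀ v, R B s v = 0 → ∃ u, (g : Matrix (Fin 2 × β) (Fin 2 × β) F) *ᵥ v = v + Cfsg.Agent.H872.ten u s) :
    ∃ (a : β → F) (h : GL β F), B s a = 0 ∧ Sieg Q B s a h ∧ kr ((1 : GL (Fin 2) F), h) = g := by
  obtain ⟨y₀, hy₀⟩ := T.nd s hs
  set y := (B s y₀)⁻¹ • y₀ with hy
  have hsy : B s y = 1 := by rw [hy, T.qf.smul_right, inv_mul_cancel₀ hy₀]
  have hys : B y s = 1 := by rw [T.qf.comm, hsy]
  have hss : B s s = 0 := by rw [T.qf.self, hQs, mul_zero]
  have hiso := hM.iso g hg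
  -- Λ
  have hΛ : ∀ v, R B s v = 0 → (g : Matrix (Fin 2 × β) (Fin 2 × β) F) *ᵥ v =
      v + Cfsg.Agent.H872.ten (R B y ((g : Matrix (Fin 2 × β) (Fin 2 × β) F) *ᵥ v - v)) s := by
    intro v hv
    obtain ⟨u, hu⟩ := hPP v hv
    have h1 : (g : Matrix (Fin 2 × β) (Fin 2 × β) F) *ᵥ v - v = Cfsg.Agent.H872.ten u s := by rw [hu]; abel
    rw [h1, T.R_ten, hys, one_smul, hu]
  -- g commutes with the Siegel elements
  have hcomm : ∀ (a : β → F) (h : GL β F), B s a = 0 → Sieg Q B s a h →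
      (∀ x, Q ((h : Matrix β β F) *ᵥ x) = Q x) →
      g * kr ((1 : GL (Fin 2) F), h) = kr ((1 : GL (Fin 2) F), h) * g := by
    intro a h hsa hh hiso'
    set d := kr ((1 : GL (Fin 2) F), h) with hd
    have hdM : d ∈ M := T.one_kr_mem hM (T.B_iso hiso')
    have hdact : ∀ v, R B s v = 0 → (d : Matrix (Fin 2 × β) (Fin 2 × β) F) *ᵥ v =
        v - Cfsg.Agent.H872.ten (R B a v) s := by
      intro v hv
      rw [T.kr_sieg hh, hv, ten_zero_left, ten_zero_left, smul_zero, add_zero, sub_zero]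
    have h1 : (d * g)⁻¹ * (g * d) = 1 := by
      apply hnc _ (M.mul_mem (M.inv_mem (M.mul_mem hdM hg)) (M.mul_mem hg hdM))
      intro v hv
      have h2 : (g : Matrix (Fin 2 × β) (Fin 2 × β) F) *ᵥ ((d : Matrix (Fin 2 × β) (Fin 2 × β) F) *ᵥ v) =
          (d : Matrix (Fin 2 × β) (Fin 2 × β) F) *ᵥ ((g : Matrix (Fin 2 × β) (Fin 2 × β) F) *ᵥ v) := by
        have hgv : R B s ((g : Matrix (Fin 2 × β) (Fin 2 × β) F) *ᵥ v) = 0 := by
          rw [hΛ v hv, map_add, hv, T.R_self hQs, add_zero]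
        obtain ⟨u', hu'⟩ := hPP v hv
        rw [hdact v hv, hdact _ hgv, Matrix.mulVec_sub, hP, hu', map_add, T.R_ten, T.qf.comm a s, hsa, zero_smul,
          add_zero]
      have h3 : ((g * d : GL (Fin 2 × β) F) : Matrix (Fin 2 × β) (Fin 2 × β) F) *ᵥ v =
          ((d * g : GL (Fin 2 × β) F) : Matrix (Fin 2 × β) (Fin 2 × β) F) *ᵥ v := by
        rw [Units.val_mul, Units.val_mul, ← Matrix.mulVec_mulVec, ← Matrix.mulVec_mulVec, h2]
      rw [Units.val_mul (d * g)⁻¹ (g * d), ← Matrix.mulVec_mulVec, h3, Matrix.mulVec_mulVec,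
        ← Units.val_mul, inv_mul_cancel, Units.val_one, Matrix.one_mulVec]
    exact (inv_mul_eq_one.mp h1).symm
  -- z_u
  let z : (Fin 2 → F) → (Fin 2 × β → F) := fun u =>
    (g : Matrix (Fin 2 × β) (Fin 2 × β) F) *ᵥ (Cfsg.Agent.H872.ten u y) - Cfsg.Agent.H872.ten u y
  have hz : ∀ u, (g : Matrix (Fin 2 × β) (Fin 2 × β) F) *ᵥ (Cfsg.Agent.H872.ten u y) =
      Cfsg.Agent.H872.ten u y + z u := by
    intro u; simp only [z]; abel
  have hzadd : ∀ u u', z (u + u') = z u + z u' := by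
    intro u u'
    simp only [z, ten_add_left, Matrix.mulVec_add]
    abel
  have hRz : ∀ u, R B s (z u) = 0 := by
    intro u
    apply T.eq_zero_of_f₁
    intro u'
    rw [← T.form_R]
    have h1 := hiso (Cfsg.Agent.H872.ten u y) (Cfsg.Agent.H872.ten u' s)
    rw [hP, hz, T.bil.add_left] at h1
    linear_combination h1
  -- (*)
  have hstar : ∀ u a, B s a = 0 → (g : Matrix (Fin 2 × β) (Fin 2 × β) F) *ᵥ (Cfsg.Agent.H872.ten u a) =
      Cfsg.Agent.H872.ten u a - Cfsg.Agent.H872.ten (R B a (z u)) s := by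
    intro u a hsa
    obtain ⟨h, hh, hiso'⟩ := T.exists_sieg hQs hsa
    have h1 := hcomm a h hsa hh hiso'
    have h2 : (g : Matrix (Fin 2 × β) (Fin 2 × β) F) *ᵥ
        ((kr ((1 : GL (Fin 2) F), h) : Matrix (Fin 2 × β) (Fin 2 × β) F) *ᵥ (Cfsg.Agent.H872.ten u y)) =
        (kr ((1 : GL (Fin 2) F), h) : Matrix (Fin 2 × β) (Fin 2 × β) F) *ᵥ
        ((g : Matrix (Fin 2 × β) (Fin 2 × β) F) *ᵥ (Cfsg.Agent.H872.ten u y)) := by
      rw [Matrix.mulVec_mulVec, Matrix.mulVec_mulVec, ← Units.val_mul, ← Units.val_mul, h1]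
    rw [hz, Matrix.mulVec_add, T.kr_sieg hh (z u), hRz, ten_zero_left, ten_zero_left, smul_zero, add_zero, sub_zero,
      T.kr_sieg hh, T.R_ten, T.R_ten, hsy, one_smul, ten_smul_left, Matrix.mulVec_sub, Matrix.mulVec_sub,
      Matrix.mulVec_add, hz, Matrix.mulVec_smul, Matrix.mulVec_smul, hP] at h2
    have h3 : (g : Matrix (Fin 2 × β) (Fin 2 × β) F) *ᵥ (Cfsg.Agent.H872.ten u a) =
      (Cfsg.Agent.H872.ten u y + z u + (g : Matrix (Fin 2 × β) (Fin 2 × β) F) *ᵥ (Cfsg.Agent.H872.ten u a)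
        - B a y • Cfsg.Agent.H872.ten u s - Q a • Cfsg.Agent.H872.ten u s)
        - (Cfsg.Agent.H872.ten u y + z u - B a y • Cfsg.Agent.H872.ten u s - Q a • Cfsg.Agent.H872.ten u s) := by
      abel
    rw [h3, h2]
    abel
  -- self-adjointness
  have hsa : ∀ a, B s a = 0 → ∃ c : F, ∀ u, R B a (z u) = c • u := by
    intro a hsa
    apply T.scalar_of_selfAdj (fun u => R B a (z u))
    · intro u v
      simp only [hzadd, map_add]
    · intro u u'
      have h1 := hiso (Cfsg.Agent.H872.ten u y) (Cfsg.Agent.H872.ten u' a)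
      rw [hz, hstar u' a hsa] at h1
      have h2 : ∀ x w w', f x (w - w') = f x w - f x w' := by
        intro x w w'
        rw [sub_eq_add_neg, T.bil.add_right, ← neg_one_smul F w', T.bil.smul_right]
        ring
      rw [h2, T.bil.add_left, T.bil.add_left, T.ten, T.form_R (z u) u' a, T.form_R (z u) _ s, hRz, T.f₁_zero_left,
        T.ten u y _ s, hys] at h1
      show f₁ (R B a (z u)) u' = f₁ u (R B a (z u'))
      linear_combination h1
  -- a₁
  obtain ⟨u₀, φ, hφ⟩ : ∃ u₀ φ : Fin 2 → F, φ ⬝ᵥ u₀ = 1 :=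
    ⟨Pi.single 0 1, Pi.single 0 1, by simp⟩
  set a₁ := lc φ (z u₀) with ha₁
  have hsa₁ : B s a₁ = 0 := by rw [ha₁, T.B_lc, hRz, dotProduct_zero]
  have hR : ∀ a, B s a = 0 → ∀ u, R B a (z u) = B a a₁ • u := by
    intro a ha u
    obtain ⟨c, hc⟩ := hsa a ha
    have h1 : B a a₁ = c := by
      rw [ha₁, T.B_lc, hc, dotProduct_smul, hφ, smul_eq_mul, mul_one]
    rw [hc, h1]
  obtain ⟨h, hh, hiso'⟩ := T.exists_sieg hQs hsa₁
  refine ⟨a₁, h, hsa₁, hh, ?_⟩
  have hdM : kr ((1 : GL (Fin 2) F), h) ∈ M := T.one_kr_mem hM (T.B_iso hiso')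
  have hfin : (kr ((1 : GL (Fin 2) F), h))⁻¹ * g = 1 := by
    apply hnc _ (M.mul_mem (M.inv_mem hdM) hg)
    intro v hv
    have h1 : Matrix.toLin' (g : Matrix (Fin 2 × β) (Fin 2 × β) F) v =
        Matrix.toLin' (kr ((1 : GL (Fin 2) F), h) : Matrix (Fin 2 × β) (Fin 2 × β) F) v := by
      refine T.ext_perp (s := s) ?_ hv
      intro u a ha
      rw [Matrix.toLin'_apply, Matrix.toLin'_apply, hstar u a ha, T.kr_sieg hh, T.R_ten, T.R_ten, ha, hR a ha,
        zero_smul, ten_zero_left, ten_zero_left, smul_zero, sub_zero, add_zero, T.qf.comm a₁ a]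
    rw [Matrix.toLin'_apply, Matrix.toLin'_apply] at h1
    rw [Units.val_mul, ← Matrix.mulVec_mulVec, h1, Matrix.mulVec_mulVec, ← Units.val_mul, inv_mul_cancel,
      Units.val_one, Matrix.one_mulVec]
  exact inv_mul_eq_one.mp hfin

end Tens

end Cfsg.Agent.H924.Ten
end

-- part: H924/TenStab
section
/-!
# `Sp_2(q) ⊗ O_n(q)` in `Sp_{2n}(q)`: the stabiliser of `P_s` (helper924)
-/

set_option autoImplicit false
set_option linter.unusedSectionVars false

open Cfsg Cfsg.Geo Matrix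
open scoped Kronecker

namespace Cfsg.Agent.H924.Ten

open Cfsg.Agent.H929 (QF rB)
open Cfsg.Agent.H872

variable {β : Type} [Fintype β] [DecidableEq β] {F : Type*} [Field F]
variable {f₁ : (Fin 2 → F) → (Fin 2 → F) → F} {Q : (β → F) → F} {B : (β → F) → (β → F) → F}
  {f : (Fin 2 × β → F) → (Fin 2 × β → F) → F}

theorem gl_inv_mulVec {ι : Type} [Fintype ι] [DecidableEq ι] (g : GL ι F) (v : ι → F) :
    ((g⁻¹ : GL ι F) : Matrix ι ι F) *ᵥ ((g : Matrix ι ι F) *ᵥ v) = v := by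
  rw [Matrix.mulVec_mulVec, ← Units.val_mul, inv_mul_cancel, Units.val_one, Matrix.one_mulVec]

theorem gl_mulVec_inv {ι : Type} [Fintype ι] [DecidableEq ι] (g : GL ι F) (v : ι → F) :
    (g : Matrix ι ι F) *ᵥ (((g⁻¹ : GL ι F) : Matrix ι ι F) *ᵥ v) = v := by
  rw [Matrix.mulVec_mulVec, ← Units.val_mul, mul_inv_cancel, Units.val_one, Matrix.one_mulVec]

theorem gl_mul_mulVec {ι : Type} [Fintype ι] [DecidableEq ι] (g h : GL ι F) (v : ι → F) :
    ((g * h : GL ι F) : Matrix ι ι F) *ᵥ v = (g : Matrix ι ι F) *ᵥ ((h : Matrix ι ι F) *ᵥ v) := by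
  rw [Units.val_mul, Matrix.mulVec_mulVec]

/-- every element of `GL_2` is a similitude of the symplectic form -/
lemma exists_mult (T : IsSymplecticForm f₁) (a : GL (Fin 2) F) : ∃ μ : F, μ ≠ 0 ∧
    ∀ u v, f₁ ((a : Matrix _ _ F) *ᵥ u) ((a : Matrix _ _ F) *ᵥ v) = μ * f₁ u v := by
  set e : Fin 2 → F := Pi.single 0 1
  set e' : Fin 2 → F := Pi.single 1 1
  have hexp : ∀ u : Fin 2 → F, u = u 0 • e + u 1 • e' := by
    intro u
    funext i
    fin_cases i <;> simp [e, e']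
  have hco : ∀ u v, f₁ u v = (u 0 * v 1 - u 1 * v 0) * f₁ e e' := by
    intro u v
    conv_lhs => rw [hexp u, hexp v]
    simp only [T.bilinear.add_left, T.bilinear.add_right, T.bilinear.smul_left,
      T.bilinear.smul_right, T.alternating, T.skew e' e]
    ring
  have key : ∀ u v, f₁ ((a : Matrix _ _ F) *ᵥ u) ((a : Matrix _ _ F) *ᵥ v) =
      ((a : Matrix (Fin 2) (Fin 2) F) 0 0 * (a : Matrix (Fin 2) (Fin 2) F) 1 1 -
        (a : Matrix (Fin 2) (Fin 2) F) 0 1 * (a : Matrix (Fin 2) (Fin 2) F) 1 0) * f₁ u v := by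
    intro u v
    rw [hco, hco u v]
    simp only [Matrix.mulVec, dotProduct, Fin.sum_univ_two]
    ring
  refine ⟨_, ?_, key⟩
  intro h0
  rw [h0] at key
  have he : e ≠ 0 := by
    intro h
    have := congrFun h 0
    simp [e] at this
  obtain ⟨x, hx⟩ := (T.nondegenerate e he).2
  have h1 := key (((a⁻¹ : GL (Fin 2) F) : Matrix _ _ F) *ᵥ e) (((a⁻¹ : GL (Fin 2) F) : Matrix _ _ F) *ᵥ x)
  rw [gl_mulVec_inv, gl_mulVec_inv, zero_mul] at h1
  exact hx h1

namespace Tens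

variable (T : Tens f₁ Q B f) {M : Subgroup (GL (Fin 2 × β) F)} (hM : Grp f₁ B f M)

include T

lemma conj_sieg (hM : Grp f₁ B f M) {s : β → F} (hs : s ≠ 0) (hQs : Q s = 0) (hnc : NoC B M s)
    {g : GL (Fin 2 × β) F} (hg : g ∈ M) {g₁ : GL (Fin 2) F}
    (hP : ∀ u, (g : Matrix (Fin 2 × β) (Fin 2 × β) F) *ᵥ (Cfsg.Agent.H872.ten u s) =
      Cfsg.Agent.H872.ten ((g₁ : Matrix _ _ F) *ᵥ u) s) {a' : β → F} (ha' : B s a' = 0) :
    ∃ a, B s a = 0 ∧ ∀ v, R B s v = 0 → R B a' ((g : Matrix (Fin 2 × β) (Fin 2 × β) F) *ᵥ v) =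
      (g₁ : Matrix _ _ F) *ᵥ (R B a v) := by
  obtain ⟨h, hh, hiso'⟩ := T.exists_sieg hQs ha'
  set d := kr ((1 : GL (Fin 2) F), h) with hd
  have hdM : d ∈ M := T.one_kr_mem hM (T.B_iso hiso')
  have hiso := hM.iso g hg
  have hginv : ∀ u, ((g⁻¹ : GL (Fin 2 × β) F) : Matrix (Fin 2 × β) (Fin 2 × β) F) *ᵥ
      (Cfsg.Agent.H872.ten u s) = Cfsg.Agent.H872.ten (((g₁⁻¹ : GL (Fin 2) F) : Matrix (Fin 2) (Fin 2) F) *ᵥ u) s := by
    intro u
    have h1 := hP (((g₁⁻¹ : GL (Fin 2) F) : Matrix (Fin 2) (Fin 2) F) *ᵥ u)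
    rw [gl_mulVec_inv] at h1
    rw [← h1, gl_inv_mulVec]
  have hdact : ∀ v, R B s v = 0 → (d : Matrix (Fin 2 × β) (Fin 2 × β) F) *ᵥ v =
      v - Cfsg.Agent.H872.ten (R B a' v) s := by
    intro v hv
    rw [T.kr_sieg hh, hv, ten_zero_left, ten_zero_left, smul_zero, add_zero, sub_zero]
  have hx1 : ∀ v, R B s v = 0 → ((g⁻¹ * d * g : GL (Fin 2 × β) F) : Matrix (Fin 2 × β) (Fin 2 × β) F) *ᵥ v =
      v - Cfsg.Agent.H872.ten (((g₁⁻¹ : GL (Fin 2) F) : Matrix (Fin 2) (Fin 2) F) *ᵥ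
        (R B a' ((g : Matrix (Fin 2 × β) (Fin 2 × β) F) *ᵥ v))) s := by
    intro v hv
    rw [gl_mul_mulVec, gl_mul_mulVec, hdact _ (T.ten_fixed_perp hiso hP v hv), Matrix.mulVec_sub, gl_inv_mulVec,
      hginv]
  obtain ⟨a, h', hsa, hh', hx⟩ := T.levi hM hs hQs hnc (g := g⁻¹ * d * g)
    (M.mul_mem (M.mul_mem (M.inv_mem hg) hdM) hg)
    (by
      intro u
      rw [hx1 _ (T.R_self hQs u), hP, T.R_ten, T.qf.comm a' s, ha', zero_smul, Matrix.mulVec_zero, ten_zero_left,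
        sub_zero])
    (by
      intro v hv
      refine ⟨-(((g₁⁻¹ : GL (Fin 2) F) : Matrix (Fin 2) (Fin 2) F) *ᵥ
        (R B a' ((g : Matrix (Fin 2 × β) (Fin 2 × β) F) *ᵥ v))), ?_⟩
      rw [hx1 v hv, ten_neg_left, sub_eq_add_neg])
  refine ⟨a, hsa, fun v hv => ?_⟩
  have h1 := hx1 v hv
  rw [← hx, T.kr_sieg hh', hv, ten_zero_left, ten_zero_left, smul_zero, add_zero, sub_zero] at h1
  have h2 := ten_left_injective hs (sub_right_injective h1)
  rw [h2, gl_mulVec_inv]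

/-- **Lemma C**. -/
theorem stab (hM : Grp f₁ B f M) {s : β → F} (hs : s ≠ 0) (hQs : Q s = 0) (hnc : NoC B M s)
    {g : GL (Fin 2 × β) F} (hg : g ∈ M)
    (hP : ∀ u, ∃ u', (g : Matrix (Fin 2 × β) (Fin 2 × β) F) *ᵥ (Cfsg.Agent.H872.ten u s) =
      Cfsg.Agent.H872.ten u' s) :
    ∃ x : GL (Fin 2) F × GL β F, kr x = g := by
  have hiso := hM.iso g hg
  obtain ⟨y, -, hQy, hsy⟩ := T.qf.exists_hyperbolic ⊤
    (fun x _ hx => by obtain ⟨y, hy⟩ := T.nd x hx; exact ⟨y, trivial, hy⟩) (a := s) trivial hs hQs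
  have hys : B y s = 1 := by rw [T.qf.comm, hsy]
  have hss : B s s = 0 := by rw [T.qf.self, hQs, mul_zero]
  have hyy : B y y = 0 := by rw [T.qf.self, hQy, mul_zero]
  -- g₁
  let ts : (Fin 2 → F) →ₗ[F] (Fin 2 × β → F) :=
    { toFun := fun u => Cfsg.Agent.H872.ten u s
      map_add' := fun u v => ten_add_left u v s
      map_smul' := fun c u => ten_smul_left c u s }
  have hP1 : ∀ u, (g : Matrix (Fin 2 × β) (Fin 2 × β) F) *ᵥ (Cfsg.Agent.H872.ten u s) =
      Cfsg.Agent.H872.ten (((R B y) ∘ₗ (Matrix.toLin' (g : Matrix (Fin 2 × β) (Fin 2 × β) F)) ∘ₗ ts) u) s := by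
    intro u
    obtain ⟨u', hu'⟩ := hP u
    have : ((R B y) ∘ₗ (Matrix.toLin' (g : Matrix (Fin 2 × β) (Fin 2 × β) F)) ∘ₗ ts) u = u' := by
      show R B y (Matrix.toLin' (g : Matrix (Fin 2 × β) (Fin 2 × β) F) (Cfsg.Agent.H872.ten u s)) = u'
      rw [Matrix.toLin'_apply, hu', T.R_ten, hys, one_smul]
    rw [this, hu']
  obtain ⟨g₁, hg₁⟩ := exists_gl_of_injective
    ((R B y) ∘ₗ (Matrix.toLin' (g : Matrix (Fin 2 × β) (Fin 2 × β) F)) ∘ₗ ts) (by
      intro u hu
      have h1 := hP1 u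
      rw [hu, ten_zero_left] at h1
      rcases ten_eq_zero (gl_mulVec_eq_zero g h1) with h | h
      · exact h
      · exact absurd h hs)
  have hP2 : ∀ u, (g : Matrix (Fin 2 × β) (Fin 2 × β) F) *ᵥ (Cfsg.Agent.H872.ten u s) =
      Cfsg.Agent.H872.ten ((g₁ : Matrix _ _ F) *ᵥ u) s := by
    intro u; rw [hP1, hg₁]
  obtain ⟨μ, hμ, hmult⟩ := exists_mult T.sym g₁
  -- Z
  set φ₀ : Fin 2 → F := Pi.single 0 1 with hφ₀
  set u₀ : Fin 2 → F := ((g₁⁻¹ : GL (Fin 2) F) : Matrix (Fin 2) (Fin 2) F) *ᵥ (Pi.single 0 1) with hu₀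
  have hφu : φ₀ ⬝ᵥ ((g₁ : Matrix (Fin 2) (Fin 2) F) *ᵥ u₀) = 1 := by
    rw [hu₀, gl_mulVec_inv]; simp [hφ₀]
  let t₀ : (β → F) →ₗ[F] (Fin 2 × β → F) :=
    { toFun := fun w => Cfsg.Agent.H872.ten u₀ w
      map_add' := fun u v => ten_add_right u₀ u v
      map_smul' := fun c u => ten_smul_right c u₀ u }
  let Z : (β → F) →ₗ[F] (β → F) := (lc φ₀) ∘ₗ (Matrix.toLin' (g : Matrix (Fin 2 × β) (Fin 2 × β) F)) ∘ₗ t₀
  have hZ : ∀ b, Z b = lc φ₀ ((g : Matrix (Fin 2 × β) (Fin 2 × β) F) *ᵥ Cfsg.Agent.H872.ten u₀ b) := by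
    intro b
    show lc φ₀ (Matrix.toLin' (g : Matrix (Fin 2 × β) (Fin 2 × β) F) (Cfsg.Agent.H872.ten u₀ b)) = _
    rw [Matrix.toLin'_apply]
  have hRZ : ∀ a', B s a' = 0 → ∀ b, B s b = 0 → ∀ u,
      R B a' ((g : Matrix (Fin 2 × β) (Fin 2 × β) F) *ᵥ Cfsg.Agent.H872.ten u b) =
        B a' (Z b) • ((g₁ : Matrix (Fin 2) (Fin 2) F) *ᵥ u) := by
    intro a' ha' b hb u
    obtain ⟨a, hsa, h1⟩ := T.conj_sieg hM hs hQs hnc hg hP2 ha'
    have hR0 : ∀ u, R B s (Cfsg.Agent.H872.ten u b) = 0 := by intro u; rw [T.R_ten, hb, zero_smul]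
    have h2 : B a' (Z b) = B a b := by
      rw [hZ, T.B_lc, h1 _ (hR0 _), T.R_ten, Matrix.mulVec_smul, dotProduct_smul, hφu, smul_eq_mul, mul_one]
    rw [h1 _ (hR0 _), T.R_ten, Matrix.mulVec_smul, h2]
  have hZs : Z s = s := by rw [hZ, hP2, lc_ten, hφu, one_smul]
  have hsZ : ∀ b, B s b = 0 → B s (Z b) = 0 := by
    intro b hb
    rw [hZ, T.B_lc, T.ten_fixed_perp hiso hP2 _ (by rw [T.R_ten, hb, zero_smul]), dotProduct_zero]
  have hgb : ∀ b, B s b = 0 → ∀ u, ∃ u', (g : Matrix (Fin 2 × β) (Fin 2 × β) F) *ᵥ Cfsg.Agent.H872.ten u b =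
      Cfsg.Agent.H872.ten ((g₁ : Matrix (Fin 2) (Fin 2) F) *ᵥ u) (Z b) + Cfsg.Agent.H872.ten u' s := by
    intro b hb u
    obtain ⟨u', hu'⟩ := T.exists_ten_of_R hs (z := (g : Matrix (Fin 2 × β) (Fin 2 × β) F) *ᵥ
      Cfsg.Agent.H872.ten u b - Cfsg.Agent.H872.ten ((g₁ : Matrix (Fin 2) (Fin 2) F) *ᵥ u) (Z b)) (by
        intro a' ha'
        rw [map_sub, hRZ a' ha' b hb u, T.R_ten, sub_self])
    exact ⟨u', by rw [← hu']; abel⟩
  have hBZ : ∀ b b', B s b = 0 → B s b' = 0 → B (Z b) (Z b') = μ⁻¹ * B b b' := by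
    intro b b' hb hb'
    obtain ⟨x, hx⟩ := (T.sym.nondegenerate (Pi.single 0 1) (by
      intro h; have := congrFun h 0; simp at this)).2
    obtain ⟨x₁, hx₁⟩ := hgb b hb (Pi.single 0 1)
    obtain ⟨x₂, hx₂⟩ := hgb b' hb' x
    have h1 := hiso (Cfsg.Agent.H872.ten (Pi.single 0 1) b) (Cfsg.Agent.H872.ten x b')
    rw [hx₁, hx₂, T.bil.add_left, T.bil.add_right, T.bil.add_right, T.ten, T.ten, T.ten, T.ten, T.ten, hmult, hss,
      hsZ b' hb', T.qf.comm (Z b) s, hsZ b hb] at h1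
    have h2 : f₁ (Pi.single 0 1) x * (μ * B (Z b) (Z b')) = f₁ (Pi.single 0 1) x * B b b' := by
      linear_combination h1
    have h3 := mul_left_cancel₀ hx h2
    rw [← h3, inv_mul_cancel_left₀ hμ]
  -- z̃
  let Bl : (β → F) → (β → F) →ₗ[F] F := fun w =>
    { toFun := fun x => B x w
      map_add' := fun x x' => T.qf.add_left x x' w
      map_smul' := fun c x => T.qf.smul_left c x w }
  let pr : (β → F) →ₗ[F] (β → F) := LinearMap.id - (Bl y).smulRight s - (Bl s).smulRight y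
  let Z' : (β → F) →ₗ[F] (β → F) := (Bl y).smulRight s + μ⁻¹ • (Bl s).smulRight y +
    (LinearMap.id - (Bl y).smulRight s) ∘ₗ Z ∘ₗ pr
  have hpr : ∀ x, pr x = x - B x y • s - B x s • y := fun x => rfl
  have hZ' : ∀ x, Z' x = B x y • s + μ⁻¹ • (B x s • y) + (Z (pr x) - B (Z (pr x)) y • s) := fun x => rfl
  have hprs : ∀ x, B s (pr x) = 0 := by
    intro x
    rw [hpr, T.qf.sub_right, T.qf.sub_right, T.qf.smul_right, T.qf.smul_right, hss, hsy, T.qf.comm s x]
    ring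
  have hB : ∀ x x', B (Z' x) (Z' x') = μ⁻¹ * B x x' := by
    intro x x'
    have e1 : B (Z (pr x)) (Z (pr x')) = μ⁻¹ * (B x x' - B x' y * B x s - B x' s * B x y) := by
      rw [hBZ _ _ (hprs x) (hprs x')]
      congr 1
      rw [hpr, hpr]
      simp only [T.qf.sub_left, T.qf.sub_right, T.qf.smul_left, T.qf.smul_right, hss, hyy, hsy, hys,
        T.qf.comm s x', T.qf.comm y x']
      ring
    rw [hZ', hZ']
    simp only [T.qf.add_left, T.qf.add_right, T.qf.sub_left, T.qf.sub_right, T.qf.smul_left, T.qf.smul_right, hss,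
      hyy, hsy, hys, e1, hsZ _ (hprs x), hsZ _ (hprs x'), T.qf.comm (Z (pr x)) s,
      T.qf.comm y (Z (pr x'))]
    ring
  obtain ⟨g₂, hg₂⟩ := exists_gl_of_injective Z' (by
    intro x hx
    by_contra hx0
    obtain ⟨x', hx'⟩ := T.nd x hx0
    apply hx'
    have h1 := hB x x'
    rw [hx, T.qf.zero_left] at h1
    rcases mul_eq_zero.mp h1.symm with h | h
    · exact absurd h (inv_ne_zero hμ)
    · exact h)
  have hg₂s : (g₂ : Matrix β β F) *ᵥ s = s := by
    rw [hg₂, hZ']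
    have : pr s = 0 := by
      rw [hpr, hsy, hss, one_smul, zero_smul, sub_self, sub_zero]
    rw [this, map_zero, hsy, hss, T.qf.zero_left, one_smul, zero_smul, smul_zero, zero_smul, sub_zero, add_zero,
      add_zero]
  have hg₂b : ∀ b, B s b = 0 → ∃ c : F, (g₂ : Matrix β β F) *ᵥ b = Z b + c • s := by
    intro b hb
    refine ⟨- B (Z (pr b)) y, ?_⟩
    have h1 : pr b = b - B b y • s := by rw [hpr, T.qf.comm b s, hb, zero_smul, sub_zero]
    rw [hg₂, hZ', T.qf.comm b s, hb, zero_smul, smul_zero, add_zero, neg_smul]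
    have h2 : Z (pr b) = Z b - B b y • s := by rw [h1, map_sub, map_smul, hZs]
    conv_lhs => rw [show Z (pr b) - B (Z (pr b)) y • s = Z b - B b y • s - B (Z (pr b)) y • s by
      conv_lhs => rw [h2]
      rw [h2]]
    abel
  set k := kr (g₁, g₂) with hk
  have hkM : k ∈ M := hM.mem g₁ g₂ μ hμ hmult (by
    intro x x'
    rw [hg₂, hg₂, hB])
  have hks : ∀ u, (k : Matrix (Fin 2 × β) (Fin 2 × β) F) *ᵥ (Cfsg.Agent.H872.ten u s) =
      Cfsg.Agent.H872.ten ((g₁ : Matrix _ _ F) *ᵥ u) s := by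
    intro u
    rw [hk, kr_mulVec_ten, hg₂s]
  have hkinv : ∀ u, ((k⁻¹ : GL (Fin 2 × β) F) : Matrix (Fin 2 × β) (Fin 2 × β) F) *ᵥ
      (Cfsg.Agent.H872.ten u s) = Cfsg.Agent.H872.ten (((g₁⁻¹ : GL (Fin 2) F) : Matrix (Fin 2) (Fin 2) F) *ᵥ u) s := by
    intro u
    have h1 := hks (((g₁⁻¹ : GL (Fin 2) F) : Matrix (Fin 2) (Fin 2) F) *ᵥ u)
    rw [gl_mulVec_inv] at h1
    rw [← h1, gl_inv_mulVec]
  have hdiff : ∀ v, R B s v = 0 → ∃ u', (g : Matrix (Fin 2 × β) (Fin 2 × β) F) *ᵥ v =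
      (k : Matrix (Fin 2 × β) (Fin 2 × β) F) *ᵥ v + Cfsg.Agent.H872.ten u' s := by
    intro v hv
    obtain ⟨u', hu'⟩ := T.exists_ten_of_R hs (z := (g : Matrix (Fin 2 × β) (Fin 2 × β) F) *ᵥ v -
      (k : Matrix (Fin 2 × β) (Fin 2 × β) F) *ᵥ v) (by
        intro a' ha'
        rw [map_sub, sub_eq_zero]
        have h1 : ((R B a') ∘ₗ Matrix.toLin' (g : Matrix (Fin 2 × β) (Fin 2 × β) F)) v =
            ((R B a') ∘ₗ Matrix.toLin' (k : Matrix (Fin 2 × β) (Fin 2 × β) F)) v := by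
          refine T.ext_perp (s := s) ?_ hv
          intro u b hb
          rw [LinearMap.comp_apply, LinearMap.comp_apply, Matrix.toLin'_apply, Matrix.toLin'_apply,
            hRZ a' ha' b hb u, hk, kr_mulVec_ten]
          obtain ⟨c, hc⟩ := hg₂b b hb
          show _ = R B a' (Cfsg.Agent.H872.ten ((g₁ : Matrix _ _ F) *ᵥ u) ((g₂ : Matrix β β F) *ᵥ b))
          rw [hc, T.R_ten, T.qf.add_right, T.qf.smul_right, T.qf.comm a' s, ha', mul_zero, add_zero]
        rw [LinearMap.comp_apply, LinearMap.comp_apply, Matrix.toLin'_apply, Matrix.toLin'_apply] at h1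
        exact h1)
    exact ⟨u', by rw [← hu']; abel⟩
  obtain ⟨a, h, -, -, hx⟩ := T.levi hM hs hQs hnc (g := k⁻¹ * g) (M.mul_mem (M.inv_mem hkM) hg)
    (by
      intro u
      rw [gl_mul_mulVec, hP2, hkinv, gl_inv_mulVec])
    (by
      intro v hv
      obtain ⟨u', hu'⟩ := hdiff v hv
      refine ⟨((g₁⁻¹ : GL (Fin 2) F) : Matrix (Fin 2) (Fin 2) F) *ᵥ u', ?_⟩
      rw [gl_mul_mulVec, hu', Matrix.mulVec_add, gl_inv_mulVec, hkinv])
  refine ⟨(g₁, g₂) * ((1 : GL (Fin 2) F), h), ?_⟩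
  rw [map_mul, hx, ← hk, mul_inv_cancel_left]

end Tens

end Cfsg.Agent.H924.Ten
end

-- part: H924/TenTI
section
/-!
# `Sp_2(q) ⊗ O_n(q)` in `Sp_{2n}(q)`: the TI argument (helper924)
-/

set_option autoImplicit false
set_option linter.unusedSectionVars false

open Cfsg Cfsg.Geo Matrix
open scoped Kronecker

namespace Cfsg.Agent.H924.Ten

open Cfsg.Agent.H929 (QF rB)
open Cfsg.Agent.H872

variable {β : Type} [Fintype β] [DecidableEq β] {F : Type*} [Field F]
variable {f₁ : (Fin 2 → F) → (Fin 2 → F) → F} {Q : (β → F) → F} {B : (β → F) → (β → F) → F}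
  {f : (Fin 2 × β → F) → (Fin 2 × β → F) → F}

/-- two independent functionals on `F²` determine a tensor -/
lemma eq_zero_of_lc {φ ψ : Fin 2 → F} (h : φ 0 * ψ 1 - φ 1 * ψ 0 ≠ 0) {v : Fin 2 × β → F}
    (h1 : lc φ v = 0) (h2 : lc ψ v = 0) : v = 0 := by
  funext ⟨i, j⟩
  have e1 := congrFun h1 j
  have e2 := congrFun h2 j
  simp only [lc_apply, Fin.sum_univ_two, Pi.zero_apply] at e1 e2
  have a0 : (φ 0 * ψ 1 - φ 1 * ψ 0) * v (0, j) = 0 := by linear_combination ψ 1 * e1 - φ 1 * e2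
  have a1 : (φ 0 * ψ 1 - φ 1 * ψ 0) * v (1, j) = 0 := by linear_combination φ 0 * e2 - ψ 0 * e1
  fin_cases i
  · exact (mul_eq_zero.mp a0).resolve_left h
  · exact (mul_eq_zero.mp a1).resolve_left h

/-- a matrix for which every functional is an eigenvector is scalar -/
lemma scalar_of_det {Y : Matrix (Fin 2) (Fin 2) F}
    (h : ∀ φ : Fin 2 → F, φ 0 * (φ ᵥ* Y) 1 - φ 1 * (φ ᵥ* Y) 0 = 0) : ∃ c : F, ∀ u, Y *ᵥ u = c • u := by
  have h0 := h ![1, 0]
  have h1 := h ![0, 1]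
  have h2 := h ![1, 1]
  simp [Matrix.vecMul, dotProduct, Fin.sum_univ_two] at h0 h1 h2
  refine ⟨Y 0 0, fun u => ?_⟩
  funext i
  fin_cases i
  · simp only [Fin.zero_eta, Matrix.mulVec, dotProduct, Fin.sum_univ_two, Pi.smul_apply, smul_eq_mul]
    rw [h0]; ring
  · simp only [Fin.mk_one, Matrix.mulVec, dotProduct, Fin.sum_univ_two, Pi.smul_apply, smul_eq_mul]
    linear_combination u 0 * h1 + u 1 * (h2 - h0 + h1)

namespace Tens

variable (T : Tens f₁ Q B f) {M : Subgroup (GL (Fin 2 × β) F)} (hM : Grp f₁ B f M)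

include T

/-- `(d - 1)²` -/
lemma sieg_sq {s a : β → F} (hQs : Q s = 0) (hsa : B s a = 0) {h : GL β F} (hh : Sieg Q B s a h)
    (v : Fin 2 × β → F) :
    (kr ((1 : GL (Fin 2) F), h) : Matrix (Fin 2 × β) (Fin 2 × β) F) *ᵥ
      ((kr ((1 : GL (Fin 2) F), h) : Matrix (Fin 2 × β) (Fin 2 × β) F) *ᵥ v) =
      (2 : F) • ((kr ((1 : GL (Fin 2) F), h) : Matrix (Fin 2 × β) (Fin 2 × β) F) *ᵥ v) - v
        - (2 * Q a) • Cfsg.Agent.H872.ten (R B s v) s := by
  have hss : B s s = 0 := by rw [T.qf.self, hQs, mul_zero]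
  set d := kr ((1 : GL (Fin 2) F), h) with hd
  have hds : ∀ u, (d : Matrix (Fin 2 × β) (Fin 2 × β) F) *ᵥ (Cfsg.Agent.H872.ten u s) =
      Cfsg.Agent.H872.ten u s := by
    intro u
    rw [T.kr_sieg hh, T.R_ten, T.R_ten, hss, T.qf.comm a s, hsa, zero_smul, ten_zero_left, ten_zero_left, smul_zero,
      sub_zero, sub_zero, add_zero]
  have hda : ∀ u, (d : Matrix (Fin 2 × β) (Fin 2 × β) F) *ᵥ (Cfsg.Agent.H872.ten u a) =
      Cfsg.Agent.H872.ten u a - (2 * Q a) • Cfsg.Agent.H872.ten u s := by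
    intro u
    rw [T.kr_sieg hh, T.R_ten, T.R_ten, hsa, T.qf.self, zero_smul, ten_zero_left, ten_zero_left, smul_zero,
      sub_zero, add_zero, ten_smul_left]
  have h1 : (d : Matrix (Fin 2 × β) (Fin 2 × β) F) *ᵥ v = v + Cfsg.Agent.H872.ten (R B s v) a
      - Cfsg.Agent.H872.ten (R B a v) s - Q a • Cfsg.Agent.H872.ten (R B s v) s := T.kr_sieg hh v
  have h2 : (d : Matrix (Fin 2 × β) (Fin 2 × β) F) *ᵥ ((d : Matrix (Fin 2 × β) (Fin 2 × β) F) *ᵥ v) =
      (d : Matrix (Fin 2 × β) (Fin 2 × β) F) *ᵥ v + (Cfsg.Agent.H872.ten (R B s v) a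
        - (2 * Q a) • Cfsg.Agent.H872.ten (R B s v) s)
      - Cfsg.Agent.H872.ten (R B a v) s - Q a • Cfsg.Agent.H872.ten (R B s v) s := by
    conv_lhs => rw [h1, Matrix.mulVec_sub, Matrix.mulVec_sub, Matrix.mulVec_add, hda, hds, Matrix.mulVec_smul, hds]
  rw [h2, h1, two_smul]
  abel

/-- powers of a Siegel transformation -/
lemma sieg_pow {s a : β → F} (hQs : Q s = 0) (hsa : B s a = 0) {h : GL β F} (hh : Sieg Q B s a h) (n : ℕ)
    (x : β → F) :
    ((h ^ n : GL β F) : Matrix β β F) *ᵥ x = x + ((n : F) * B x s) • a - ((n : F) * B x a) • s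
      - ((n : F) ^ 2 * (Q a * B x s)) • s := by
  have hss : B s s = 0 := by rw [T.qf.self, hQs, mul_zero]
  have hhs : (h : Matrix β β F) *ᵥ s = s := by
    rw [hh, hss, hsa, mul_zero, zero_smul, zero_smul, add_zero, sub_zero, sub_zero]
  have hha : (h : Matrix β β F) *ᵥ a = a - (2 * Q a) • s := by
    rw [hh, T.qf.comm a s, hsa, T.qf.self, mul_zero, zero_smul, zero_smul, add_zero, sub_zero]
  induction n with
  | zero => simp
  | succ n ih =>
    rw [pow_succ', gl_mul_mulVec, ih, Matrix.mulVec_sub, Matrix.mulVec_sub, Matrix.mulVec_add, Matrix.mulVec_smul,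
      Matrix.mulVec_smul, Matrix.mulVec_smul, hhs, hha, hh x]
    funext i
    simp only [Pi.add_apply, Pi.sub_apply, Pi.smul_apply, smul_eq_mul]
    push_cast
    ring

/-- **Lemma D** (the TI property). -/
theorem ti [Finite F] (hβ : 5 ≤ Fintype.card β) (hM : Grp f₁ B f M) {s a : β → F} (hs : s ≠ 0) (hQs : Q s = 0)
    (hnc : NoC B M s) (hsa : B s a = 0) (hQa : Q a ≠ 0) {h : GL β F} (hh : Sieg Q B s a h)
    {g : GL (Fin 2 × β) F} (hg : g ∈ M)
    (hx : ∃ x : GL (Fin 2) F × GL β F, kr x = g * kr ((1 : GL (Fin 2) F), h) * g⁻¹) :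
    ∃ x : GL (Fin 2) F × GL β F, kr x = g := by
  obtain ⟨⟨y₁, y₂⟩, hy⟩ := hx
  set d := kr ((1 : GL (Fin 2) F), h) with hd
  have hiso := hM.iso g hg
  -- d' (g v) = g (d v)
  have hconj : ∀ v, (kr (y₁, y₂) : Matrix (Fin 2 × β) (Fin 2 × β) F) *ᵥ
      ((g : Matrix (Fin 2 × β) (Fin 2 × β) F) *ᵥ v) = (g : Matrix (Fin 2 × β) (Fin 2 × β) F) *ᵥ
      ((d : Matrix (Fin 2 × β) (Fin 2 × β) F) *ᵥ v) := by
    intro v
    rw [hy, gl_mul_mulVec, gl_mul_mulVec, gl_inv_mulVec]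
  -- y₁ is scalar
  have hsc : ∃ c : F, ∀ u, (y₁ : Matrix (Fin 2) (Fin 2) F) *ᵥ u = c • u := by
    apply scalar_of_det
    by_contra hcon
    push Not at hcon
    obtain ⟨φ, hφ⟩ := hcon
    let L : (Fin 2 × β → F) →ₗ[F] ((Fin 2 → F) × (Fin 2 → F)) × (β → F) :=
      ((R B s).prod (R B a)).prod ((lc φ) ∘ₗ (Matrix.toLin' (g : Matrix (Fin 2 × β) (Fin 2 × β) F)))
    have hL : Function.Injective L := by
      rw [← LinearMap.ker_eq_bot, LinearMap.ker_eq_bot']
      intro v hv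
      have h0 : ((R B s v, R B a v), lc φ (Matrix.toLin' (g : Matrix (Fin 2 × β) (Fin 2 × β) F) v)) = 0 := hv
      rw [Prod.mk_eq_zero, Prod.mk_eq_zero, Matrix.toLin'_apply] at h0
      obtain ⟨⟨h1, h2⟩, h3⟩ := h0
      have h4 : (d : Matrix (Fin 2 × β) (Fin 2 × β) F) *ᵥ v = v := by
        rw [T.kr_sieg hh, h1, h2, ten_zero_left, ten_zero_left, smul_zero, add_zero, sub_zero, sub_zero]
      have h5 := hconj v
      rw [h4] at h5
      have h6 : lc (φ ᵥ* (y₁ : Matrix (Fin 2) (Fin 2) F)) ((g : Matrix (Fin 2 × β) (Fin 2 × β) F) *ᵥ v) = 0 := by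
        have h7 := congrArg (lc φ) h5
        rw [coe_kr, lc_kron, h3] at h7
        exact gl_mulVec_eq_zero y₂ h7
      exact gl_mulVec_eq_zero g (eq_zero_of_lc hφ h3 h6)
    have hdim := LinearMap.finrank_le_finrank_of_injective hL
    simp only [Module.finrank_prod, Module.finrank_fintype_fun_eq_card, Fintype.card_prod, Fintype.card_fin] at hdim
    omega
  obtain ⟨c, hc⟩ := hsc
  -- the square of d' - 1
  set d' := kr (y₁, y₂) with hd'
  have hd'ten : ∀ u w, (d' : Matrix (Fin 2 × β) (Fin 2 × β) F) *ᵥ Cfsg.Agent.H872.ten u w =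
      Cfsg.Agent.H872.ten u (c • ((y₂ : Matrix β β F) *ᵥ w)) := by
    intro u w
    rw [hd', kr_mulVec_ten, hc, ten_smul_left, ten_smul_right]
  -- Y w = (c y₂ - 1)² w
  let Y : (β → F) → (β → F) := fun w => c • ((y₂ : Matrix β β F) *ᵥ (c • ((y₂ : Matrix β β F) *ᵥ w)))
    - (2 : F) • (c • ((y₂ : Matrix β β F) *ᵥ w)) + w
  have hYten : ∀ u w, (d' : Matrix (Fin 2 × β) (Fin 2 × β) F) *ᵥ ((d' : Matrix (Fin 2 × β) (Fin 2 × β) F) *ᵥ
      Cfsg.Agent.H872.ten u w) - (2 : F) • ((d' : Matrix (Fin 2 × β) (Fin 2 × β) F) *ᵥ Cfsg.Agent.H872.ten u w) +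
      Cfsg.Agent.H872.ten u w = Cfsg.Agent.H872.ten u (Y w) := by
    intro u w
    rw [hd'ten, hd'ten]
    funext p
    simp only [Y, ten_apply, Pi.add_apply, Pi.sub_apply, Pi.smul_apply, smul_eq_mul, nsmul_eq_mul]
    ring
  have hsq : ∀ v, (d' : Matrix (Fin 2 × β) (Fin 2 × β) F) *ᵥ ((d' : Matrix (Fin 2 × β) (Fin 2 × β) F) *ᵥ
      ((g : Matrix (Fin 2 × β) (Fin 2 × β) F) *ᵥ v)) -
      (2 : F) • ((d' : Matrix (Fin 2 × β) (Fin 2 × β) F) *ᵥ ((g : Matrix (Fin 2 × β) (Fin 2 × β) F) *ᵥ v)) +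
      (g : Matrix (Fin 2 × β) (Fin 2 × β) F) *ᵥ v =
      (g : Matrix (Fin 2 × β) (Fin 2 × β) F) *ᵥ (Cfsg.Agent.H872.ten (-(2 * Q a) • R B s v) s) := by
    intro v
    rw [hconj, hconj, T.sieg_sq hQs hsa hh, ← hd, Matrix.mulVec_sub, Matrix.mulVec_sub, Matrix.mulVec_smul, neg_smul,
      ten_neg_left, ten_smul_left, Matrix.mulVec_neg, Matrix.mulVec_smul]
    abel
  -- Y ≠ 0
  obtain ⟨w₀, hw₀⟩ : ∃ w, Y w ≠ 0 := by
    by_contra hcon
    push Not at hcon
    obtain ⟨y, hy1⟩ := T.nd s hs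
    have h1 : ∀ v, (d' : Matrix (Fin 2 × β) (Fin 2 × β) F) *ᵥ ((d' : Matrix (Fin 2 × β) (Fin 2 × β) F) *ᵥ v) -
        (2 : F) • ((d' : Matrix (Fin 2 × β) (Fin 2 × β) F) *ᵥ v) + v = 0 := by
      intro v
      have h2 : ((Matrix.toLin' (d' : Matrix (Fin 2 × β) (Fin 2 × β) F)) ∘ₗ
          (Matrix.toLin' (d' : Matrix (Fin 2 × β) (Fin 2 × β) F)) -
          (2 : F) • (Matrix.toLin' (d' : Matrix (Fin 2 × β) (Fin 2 × β) F)) + LinearMap.id) =
          (0 : (Fin 2 × β → F) →ₗ[F] (Fin 2 × β → F)) := by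
        apply linearMap_ext_ten
        intro u w
        have h3 := hYten u w
        rw [hcon w, ten_zero_right] at h3
        rw [LinearMap.zero_apply, ← h3, LinearMap.add_apply, LinearMap.sub_apply, LinearMap.smul_apply,
          LinearMap.comp_apply, Matrix.toLin'_apply, Matrix.toLin'_apply, LinearMap.id_apply, two_smul]
      have h4 := congrArg (fun X : (Fin 2 × β → F) →ₗ[F] (Fin 2 × β → F) => X v) h2
      simp only [LinearMap.add_apply, LinearMap.sub_apply, LinearMap.smul_apply, LinearMap.comp_apply,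
        Matrix.toLin'_apply, LinearMap.id_apply, LinearMap.zero_apply] at h4
      rw [two_smul] at h4
      rw [two_smul]
      exact h4
    have h5 := hsq (Cfsg.Agent.H872.ten (Pi.single 0 1) y)
    rw [h1] at h5
    have h6 := gl_mulVec_eq_zero g h5.symm
    rcases ten_eq_zero h6 with h7 | h7
    · rw [T.R_ten] at h7
      have h8 := congrFun h7 0
      simp only [Pi.smul_apply, Pi.single_eq_same, smul_eq_mul, mul_one, Pi.zero_apply] at h8
      exact (mul_ne_zero (neg_ne_zero.mpr (mul_ne_zero T.two hQa)) hy1) h8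
    · exact hs h7
  set s' := Y w₀ with hs'
  have hs'in : ∀ u, ∃ u', Cfsg.Agent.H872.ten u s' =
      (g : Matrix (Fin 2 × β) (Fin 2 × β) F) *ᵥ (Cfsg.Agent.H872.ten u' s) := by
    intro u
    rw [hs', ← hYten]
    have h1 : Cfsg.Agent.H872.ten u w₀ = (g : Matrix (Fin 2 × β) (Fin 2 × β) F) *ᵥ
        (((g⁻¹ : GL (Fin 2 × β) F) : Matrix (Fin 2 × β) (Fin 2 × β) F) *ᵥ Cfsg.Agent.H872.ten u w₀) := by
      rw [gl_mulVec_inv]
    rw [h1, hsq]
    exact ⟨_, rfl⟩
  have hss : B s s = 0 := by rw [T.qf.self, hQs, mul_zero]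
  have hQs' : Q s' = 0 := by
    obtain ⟨x, hx⟩ := (T.sym.nondegenerate (Pi.single 0 1) (by
      intro h; have := congrFun h 0; simp at this)).2
    obtain ⟨u₁, hu₁⟩ := hs'in (Pi.single 0 1)
    obtain ⟨u₂, hu₂⟩ := hs'in x
    have h1 : f (Cfsg.Agent.H872.ten (Pi.single 0 1) s') (Cfsg.Agent.H872.ten x s') = 0 := by
      rw [hu₁, hu₂, hiso, T.ten, hss, mul_zero]
    rw [T.ten, T.qf.self] at h1
    rcases mul_eq_zero.mp h1 with h2 | h2
    · exact absurd h2 hx
    · exact (mul_eq_zero.mp h2).resolve_left T.two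
  obtain ⟨b, hb, hbs⟩ := T.exists_map_sing hβ hs hw₀ (by rw [hQs, hQs'])
  have hk := T.one_kr_mem hM (T.B_iso hb)
  obtain ⟨x, hx⟩ := T.stab hM hs hQs hnc (g := g⁻¹ * kr ((1 : GL (Fin 2) F), b)) (M.mul_mem (M.inv_mem hg) hk) (by
    intro u
    obtain ⟨u', hu'⟩ := hs'in u
    refine ⟨u', ?_⟩
    rw [gl_mul_mulVec, kr_mulVec_ten, Units.val_one, Matrix.one_mulVec]
    show ((g⁻¹ : GL (Fin 2 × β) F) : Matrix (Fin 2 × β) (Fin 2 × β) F) *ᵥ
      Cfsg.Agent.H872.ten u ((b : Matrix β β F) *ᵥ s) = _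
    rw [hbs, hu', gl_inv_mulVec])
  refine ⟨((1 : GL (Fin 2) F), b) * x⁻¹, ?_⟩
  rw [map_mul, map_inv, hx]
  group

end Tens

end Cfsg.Agent.H924.Ten
end

-- part: H924/TenMain
section
/-!
# `Sp_2(q) ⊗ O_n(q)` in `Sp_{2n}(q)`: the dichotomy (helper924)
-/

set_option autoImplicit false
set_option linter.unusedSectionVars false

open Cfsg Cfsg.Geo Matrix
open scoped Kronecker

namespace Cfsg.Agent.H924.Ten

open Cfsg.Agent.H929 (QF rB)
open Cfsg.Agent.H872

variable {β : Type} [Fintype β] [DecidableEq β] {F : Type*} [Field F]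
variable {f₁ : (Fin 2 → F) → (Fin 2 → F) → F} {Q : (β → F) → F} {B : (β → F) → (β → F) → F}
  {f : (Fin 2 × β → F) → (Fin 2 × β → F) → F}

namespace Tens

variable (T : Tens f₁ Q B f) {M : Subgroup (GL (Fin 2 × β) F)} (hM : Grp f₁ B f M)

include T

/-- **Lemma E**: every vector is fixed by a Siegel element of the second kind. -/
theorem exists_fix [Finite F] (hβ : 5 ≤ Fintype.card β) (v : Fin 2 × β → F) :
    ∃ s a : β → F, s ≠ 0 ∧ Q s = 0 ∧ B s a = 0 ∧ Q a ≠ 0 ∧ R B s v = 0 ∧ R B a v = 0 := by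
  let L : (β → F) →ₗ[F] (Fin 2 → F) :=
    { toFun := fun x => R B x v
      map_add' := fun x y => T.R_add x y v
      map_smul' := fun c x => T.R_smul c x v }
  set W := LinearMap.ker L with hW
  have hmem : ∀ x, x ∈ W ↔ R B x v = 0 := fun x => LinearMap.mem_ker
  have hdim : 3 ≤ Module.finrank F W := by
    have h1 := L.finrank_range_add_finrank_ker
    have h2 := LinearMap.finrank_range_le L
    have h3 : Module.finrank F (LinearMap.range L) ≤ 2 := by
      refine (Submodule.finrank_le _).trans ?_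
      simp
    rw [Module.finrank_fintype_fun_eq_card, ← hW] at h1
    omega
  by_cases hnd : ∀ x ∈ W, x ≠ 0 → ∃ y ∈ W, B x y ≠ 0
  · obtain ⟨s, hsW, hs, hQs⟩ := T.qf.exists_singular T.two W hnd hdim
    obtain ⟨y, hyW, hQy, hsy⟩ := T.qf.exists_hyperbolic W hnd hsW hs hQs
    have hys : B y s = 1 := by rw [T.qf.comm, hsy]
    have hss : B s s = 0 := by rw [T.qf.self, hQs, mul_zero]
    have hyy : B y y = 0 := by rw [T.qf.self, hQy, mul_zero]
    obtain ⟨t, htW, ht⟩ : ∃ t ∈ W, t ∉ Submodule.span F {s, y} := by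
      by_contra hcon
      push Not at hcon
      have h1 : W ≤ Submodule.span F {s, y} := hcon
      have h2 := Submodule.finrank_mono h1
      have h3 : Module.finrank F (Submodule.span F ({s, y} : Set (β → F))) ≤ 2 := by
        classical
        have := finrank_span_finset_le_card (R := F) ({s, y} : Finset (β → F))
        rw [Finset.coe_insert, Finset.coe_singleton] at this
        exact this.trans Finset.card_le_two
      omega
    -- projections
    have hp : ∀ x ∈ W, (x - B x y • s - B x s • y) ∈ W := fun x hx =>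
      W.sub_mem (W.sub_mem hx (W.smul_mem _ hsW)) (W.smul_mem _ hyW)
    have hps : ∀ x, B s (x - B x y • s - B x s • y) = 0 := by
      intro x
      rw [T.qf.sub_right, T.qf.sub_right, T.qf.smul_right, T.qf.smul_right, hss, hsy, T.qf.comm s x]
      ring
    have hpy : ∀ x, B y (x - B x y • s - B x s • y) = 0 := by
      intro x
      rw [T.qf.sub_right, T.qf.sub_right, T.qf.smul_right, T.qf.smul_right, hyy, hys, T.qf.comm y x]
      ring
    set t₀ := t - B t y • s - B t s • y with ht₀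
    have ht₀W : t₀ ∈ W := hp t htW
    have ht₀0 : t₀ ≠ 0 := by
      intro h
      apply ht
      rw [Submodule.mem_span_pair]
      refine ⟨B t y, B t s, ?_⟩
      have h2 : t - B t y • s - B t s • y = 0 := by rw [← ht₀]; exact h
      rw [sub_sub, sub_eq_zero] at h2
      exact h2.symm
    obtain ⟨a, haW, hsa, hQa⟩ : ∃ a ∈ W, B s a = 0 ∧ Q a ≠ 0 := by
      by_cases h1 : Q t₀ = 0
      · obtain ⟨x, hxW, hx⟩ := hnd t₀ ht₀W ht₀0
        set x₀ := x - B x y • s - B x s • y with hx₀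
        have h2 : B t₀ x₀ ≠ 0 := by
          rw [hx₀, T.qf.sub_right, T.qf.sub_right, T.qf.smul_right, T.qf.smul_right, T.qf.comm t₀ s, T.qf.comm t₀ y,
            hps t, hpy t, mul_zero, mul_zero, sub_zero, sub_zero]
          exact hx
        by_cases h3 : Q x₀ = 0
        · refine ⟨t₀ + x₀, W.add_mem ht₀W (hp x hxW), ?_, ?_⟩
          · rw [T.qf.add_right, hps t, hps x, add_zero]
          · rw [T.qf.add, h1, h3, zero_add, zero_add]; exact h2
        · exact ⟨x₀, hp x hxW, hps x, h3⟩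
      · exact ⟨t₀, ht₀W, hps t, h1⟩
    exact ⟨s, a, hs, hQs, hsa, hQa, (hmem s).mp hsW, (hmem a).mp haW⟩
  · push Not at hnd
    obtain ⟨s, hsW, hs, hsy⟩ := hnd
    have hQs : Q s = 0 := by
      have := hsy s hsW
      rw [T.qf.self] at this
      exact (mul_eq_zero.mp this).resolve_left T.two
    obtain ⟨a, haW, hQa⟩ : ∃ a ∈ W, Q a ≠ 0 := by
      by_contra hcon
      push Not at hcon
      have h1 := Cfsg.Agent.H884.SingMaxPlus.two_mul_finrank_le (Cfsg.Agent.H925.nondeg_qf T.hQ) (W := W) hcon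
      rw [Module.finrank_fintype_fun_eq_card] at h1
      have h2 := L.finrank_range_add_finrank_ker
      have h3 : Module.finrank F (LinearMap.range L) ≤ 2 := by
        refine (Submodule.finrank_le _).trans ?_
        simp
      rw [Module.finrank_fintype_fun_eq_card, ← hW] at h2
      omega
    exact ⟨s, a, hs, hQs, hsy a haW, hQa, (hmem s).mp hsW, (hmem a).mp haW⟩

omit T in
/-- the vector stabiliser -/
def vstab (x : Fin 2 × β → F) : Subgroup (GL (Fin 2 × β) F) where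
  carrier := {g | (g : Matrix (Fin 2 × β) (Fin 2 × β) F) *ᵥ x = x}
  one_mem' := by simp
  mul_mem' := by
    intro a b ha hb
    show ((a * b : GL (Fin 2 × β) F) : Matrix (Fin 2 × β) (Fin 2 × β) F) *ᵥ x = x
    rw [gl_mul_mulVec, hb, ha]
  inv_mem' := by
    intro a ha
    show ((a⁻¹ : GL (Fin 2 × β) F) : Matrix (Fin 2 × β) (Fin 2 × β) F) *ᵥ x = x
    have ha' : (a : Matrix (Fin 2 × β) (Fin 2 × β) F) *ᵥ x = x := ha
    conv_lhs => rw [← ha']
    exact gl_inv_mulVec a x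

/-- **The dichotomy**: `M` contains all transvections with pure singular vectors, or `M` consists of pure tensors. -/
theorem dichotomy [Finite F] (hβ : 5 ≤ Fintype.card β) (hM : Grp f₁ B f M) :
    (∀ (c : F) (u : Fin 2 → F) (s' : β → F), Q s' = 0 →
      ∃ g' ∈ M, ∀ v, (g' : Matrix (Fin 2 × β) (Fin 2 × β) F) *ᵥ v =
        v + (c * f v (Cfsg.Agent.H872.ten u s')) • Cfsg.Agent.H872.ten u s') ∨
    (∀ g ∈ M, ∃ x : GL (Fin 2) F × GL β F, kr x = g) := by
  classical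
  by_cases hnc : ∀ s, s ≠ 0 → Q s = 0 → NoC B M s
  · right
    -- the prime
    obtain ⟨p, hp⟩ := CharP.exists F
    have hpp : p.Prime := by
      rcases CharP.char_is_prime_or_zero F p with h | h
      · exact h
      · exfalso
        subst h
        have := CharP.charP_to_charZero F
        exact not_finite F
    have : Fintype F := Fintype.ofFinite F
    have : Finite M := inferInstance
    set H : Subgroup (GL (Fin 2 × β) F) := (kr (α := Fin 2) (β := β) (F := F)).range ⊓ M with hH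
    set D : Set (GL (Fin 2 × β) F) := {d | ∃ (s a : β → F) (h : GL β F), s ≠ 0 ∧ Q s = 0 ∧ B s a = 0 ∧ Q a ≠ 0 ∧
      Sieg Q B s a h ∧ (∀ x, Q ((h : Matrix β β F) *ᵥ x) = Q x) ∧ d = kr ((1 : GL (Fin 2) F), h)} with hD
    have hDH : ∀ s ∈ D, s ∈ H ∧ ∃ k : ℕ, s ^ p ^ k = 1 := by
      rintro d ⟨s, a, h, hs, hQs, hsa, hQa, hh, hiso, rfl⟩
      refine ⟨⟨⟨_, rfl⟩, T.one_kr_mem hM (T.B_iso hiso)⟩, 1, ?_⟩
      have h1 : h ^ p = 1 := by
        apply Units.ext
        apply Matrix.ext_of_mulVec_single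
        intro i
        rw [T.sieg_pow hQs hsa hh, CharP.cast_eq_zero F p, Units.val_one, Matrix.one_mulVec]
        simp
      rw [pow_one, ← map_pow, Prod.pow_mk, one_pow, h1]
      exact map_one kr
    have hTI : ∀ s ∈ D, ∀ g ∈ M, g * s * g⁻¹ ∈ H → g ∈ H := by
      rintro d ⟨s, a, h, hs, hQs, hsa, hQa, hh, hiso, rfl⟩ g hg hgH
      exact ⟨T.ti hβ hM hs hQs (hnc s hs hQs) hsa hQa hh hg hgH.1, hg⟩
    have hfixD : ∀ v, ∃ d ∈ D, (d : Matrix (Fin 2 × β) (Fin 2 × β) F) *ᵥ v = v := by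
      intro v
      obtain ⟨s, a, hs, hQs, hsa, hQa, h1, h2⟩ := T.exists_fix hβ v
      obtain ⟨h, hh, hiso⟩ := T.exists_sieg hQs hsa
      refine ⟨_, ⟨s, a, h, hs, hQs, hsa, hQa, hh, hiso, rfl⟩, ?_⟩
      rw [T.kr_sieg hh, h1, h2, ten_zero_left, ten_zero_left, smul_zero, add_zero, sub_zero, sub_zero]
    intro g hg
    apply mem_range_kr_of_pres (by rw [Fintype.card_fin]; omega)
    intro u w
    obtain ⟨s, hsD, hs⟩ := hfixD ((g : Matrix (Fin 2 × β) (Fin 2 × β) F) *ᵥ Cfsg.Agent.H872.ten u w)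
    obtain ⟨t, htD, ht⟩ := hfixD (Cfsg.Agent.H872.ten u w)
    obtain ⟨m, hm, h, hh, hgm⟩ := Cfsg.Agent.H880.ti_transfer_one hpp M H inf_le_right D hDH hTI
      (vstab ((g : Matrix (Fin 2 × β) (Fin 2 × β) F) *ᵥ Cfsg.Agent.H872.ten u w)) hsD htD hg hs (by
        show ((g * t * g⁻¹ : GL (Fin 2 × β) F) : Matrix (Fin 2 × β) (Fin 2 × β) F) *ᵥ _ = _
        rw [gl_mul_mulVec, gl_mul_mulVec, gl_inv_mulVec, ht])
    obtain ⟨⟨⟨x₁, x₂⟩, rfl⟩, -⟩ := hh
    have hm' : (m : Matrix (Fin 2 × β) (Fin 2 × β) F) *ᵥ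
        ((g : Matrix (Fin 2 × β) (Fin 2 × β) F) *ᵥ Cfsg.Agent.H872.ten u w) =
        (g : Matrix (Fin 2 × β) (Fin 2 × β) F) *ᵥ Cfsg.Agent.H872.ten u w := hm
    have h1 : (m : Matrix (Fin 2 × β) (Fin 2 × β) F) *ᵥ
        ((kr (x₁, x₂) : Matrix (Fin 2 × β) (Fin 2 × β) F) *ᵥ Cfsg.Agent.H872.ten u w) =
        (g : Matrix (Fin 2 × β) (Fin 2 × β) F) *ᵥ Cfsg.Agent.H872.ten u w := by
      rw [← gl_mul_mulVec, ← hgm]
    rw [← hm'] at h1
    have h2 := congrArg (fun x => ((m⁻¹ : GL (Fin 2 × β) F) : Matrix (Fin 2 × β) (Fin 2 × β) F) *ᵥ x) h1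
    simp only [gl_inv_mulVec] at h2
    rw [← h2, kr_mulVec_ten]
    exact ⟨_, _, rfl⟩
  · left
    push Not at hnc
    obtain ⟨s, hs, hQs, hn⟩ := hnc
    unfold NoC at hn
    push Not at hn
    obtain ⟨g, hg, hfix, hg1⟩ := hn
    exact fun c u s' hs' => T.transvections hβ hM hs hQs hg hg1 hfix c u s' hs'

end Tens

end Cfsg.Agent.H924.Ten
end

-- part: H924/TenWrap
section
/-!
# `Sp_2(q) ⊗ O_n(q)` is maximal in `Sp_{2n}(q)` for `q` odd, `n ≥ 5` (helper924)
-/

set_option autoImplicit false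
set_option linter.unusedSectionVars false

open Cfsg Cfsg.Geo Matrix
open scoped Kronecker

namespace Cfsg.Agent.H924.Ten

open Cfsg.Agent.H929 (QF rB)
open Cfsg.Agent.H872

/-- intermediate vectors in `F²` -/
lemma exists_mid {F : Type*} [Field F] {f₁ : (Fin 2 → F) → (Fin 2 → F) → F} (T : IsSymplecticForm f₁)
    {e e' : Fin 2 → F} (he : e ≠ 0) (he' : e' ≠ 0) : ∃ z, f₁ e z ≠ 0 ∧ f₁ z e' ≠ 0 := by
  obtain ⟨x, hx⟩ := (T.nondegenerate e he).2
  obtain ⟨y, hy⟩ := (T.nondegenerate e' he').1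
  by_cases h1 : f₁ x e' = 0
  · by_cases h2 : f₁ e y = 0
    · refine ⟨x + y, ?_, ?_⟩
      · rw [T.bilinear.add_right, h2, add_zero]; exact hx
      · rw [T.bilinear.add_left, h1, zero_add]; exact hy
    · exact ⟨y, h2, hy⟩
  · exact ⟨x, hx, h1⟩

section Conn

variable {β : Type} [Fintype β] [DecidableEq β] {F : Type*} [Field F]
variable {f₁ : (Fin 2 → F) → (Fin 2 → F) → F} {Q : (β → F) → F} {B : (β → F) → (β → F) → F}
  {f : (Fin 2 × β → F) → (Fin 2 × β → F) → F}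

/-- connectedness of the graph of singular pure tensors -/
theorem Tens.conn [Finite F] (T : Tens f₁ Q B f) (hβ : 3 ≤ Fintype.card β)
    (Pr : (Fin 2 → F) → (β → F) → Prop)
    (hPr : ∀ u s u' t, Q s = 0 → Q t = 0 → Pr u s → f₁ u u' ≠ 0 → B s t ≠ 0 → Pr u' t)
    {u : Fin 2 → F} {s : β → F} (hu : u ≠ 0) (hs : s ≠ 0) (hQs : Q s = 0) (h : Pr u s)
    {u' : Fin 2 → F} {s' : β → F} (hu' : u' ≠ 0) (hs' : s' ≠ 0) (hQs' : Q s' = 0) : Pr u' s' := by
  have hnd : ∀ x ∈ (⊤ : Submodule F (β → F)), x ≠ 0 → ∃ y ∈ (⊤ : Submodule F (β → F)), B x y ≠ 0 :=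
    fun x _ hx => by obtain ⟨y, hy⟩ := T.nd x hx; exact ⟨y, trivial, hy⟩
  obtain ⟨t, -, hQt, hst⟩ := T.qf.exists_singular_not_orth ⊤ hnd (a := s) trivial hs hQs (x := s) trivial hs
  obtain ⟨t', -, hQt', hst'⟩ := T.qf.exists_singular_not_orth ⊤ hnd (a := s) trivial hs hQs (x := s') trivial hs'
  have two_step : ∀ t, Q t = 0 → B s t ≠ 0 → B s' t ≠ 0 → Pr u' s' := by
    intro t hQt h1 h2
    obtain ⟨z, hz1, hz2⟩ := exists_mid T.sym hu hu'
    exact hPr z t u' s' hQt hQs' (hPr u s z t hQs hQt h hz1 h1) hz2 (by rw [T.qf.comm]; exact h2)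
  by_cases h1 : B s' t = 0
  · by_cases h2 : B s t' = 0
    · by_cases h3 : B t t' = 0
      · refine two_step (t + t') ?_ ?_ ?_
        · rw [T.qf.add, hQt, hQt', h3]; ring
        · rw [T.qf.add_right, h2, add_zero]; exact hst
        · rw [T.qf.add_right, h1, zero_add]; exact hst'
      · obtain ⟨z, hz⟩ := (T.sym.nondegenerate u hu).2
        have hz0 : z ≠ 0 := by
          rintro rfl
          apply hz
          have := T.sym.bilinear.smul_right 0 u 0
          simpa using this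
        obtain ⟨z', hz1, hz2⟩ := exists_mid T.sym hz0 hu'
        exact hPr z' t' u' s' hQt' hQs' (hPr z t z' t' hQt hQt' (hPr u s z t hQs hQt h hz hst) hz1 h3) hz2
          (by rw [T.qf.comm]; exact hst')
    · exact two_step t' hQt' h2 hst'
  · exact two_step t hQt hst h1

end Conn

variable {F : Type*} [Field F]

/-- transport of `GL` along a tensor structure -/
def theta {ι : Type} [Fintype ι] [DecidableEq ι] {n₁ n₂ : ℕ} (e : ι ≃ Fin n₁ × Fin n₂) (P : GL ι F) :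
    GL (Fin n₁ × Fin n₂) F ≃* GL ι F := (glReindex e.symm).trans (MulAut.conj P)

lemma theta_vec {ι : Type} [Fintype ι] [DecidableEq ι] {n₁ n₂ : ℕ} (e : ι ≃ Fin n₁ × Fin n₂) (P : GL ι F)
    (g : GL (Fin n₁ × Fin n₂) F) (z : Fin n₁ × Fin n₂ → F) :
    (theta e P g : Matrix ι ι F) *ᵥ (Cfsg.Agent.H883.Tensor.vec e P z) =
      Cfsg.Agent.H883.Tensor.vec e P ((g : Matrix (Fin n₁ × Fin n₂) (Fin n₁ × Fin n₂) F) *ᵥ z) := by
  rw [Cfsg.Agent.H883.Tensor.vec_apply, Cfsg.Agent.H883.Tensor.vec_apply]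
  have h1 : theta e P g = P * glReindex e.symm g * P⁻¹ := rfl
  rw [h1, gl_mul_mulVec, gl_mul_mulVec, gl_inv_mulVec]
  congr 1
  have h2 : (glReindex e.symm g : Matrix ι ι F) =
      (g : Matrix (Fin n₁ × Fin n₂) (Fin n₁ × Fin n₂) F).submatrix e e := rfl
  rw [h2, Matrix.submatrix_mulVec_equiv]
  congr 1
  congr 1
  funext i
  simp

lemma theta_kr_mem {ι : Type} [Fintype ι] [DecidableEq ι] {n₁ n₂ : ℕ} (e : ι ≃ Fin n₁ × Fin n₂) (P : GL ι F)
    (x : GL (Fin n₁) F × GL (Fin n₂) F) : theta e P (kr x) ∈ tensorProductSubgroup n₁ n₂ e P :=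
  ⟨glReindex e.symm (kr x), ⟨kr x, ⟨x.1, x.2, rfl⟩, rfl⟩, rfl⟩

/-- **`Sp_2(q) ⊗ O_n(q)` is maximal in `Sp_{2m}(q)`**, `q` odd, `n ≥ 5`. -/
theorem tensor_two_maximal [Fintype F] {m n₂ : ℕ} (hn₂ : 5 ≤ n₂) (hodd : Odd (Fintype.card F))
    (e : (Fin m ⊕ Fin m) ≃ Fin 2 × Fin n₂) (P : Matrix.GeneralLinearGroup (Fin m ⊕ Fin m) F)
    (f₁ : (Fin 2 → F) → (Fin 2 → F) → F) (f₂ : (Fin n₂ → F) → (Fin n₂ → F) → F)
    (hf₁ : Cfsg.Geo.IsSymplecticForm f₁) (hf₂ : Cfsg.Geo.IsSymmetricForm f₂)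
    (hT : Cfsg.Geo.IsTensorFormStructure id (Cfsg.sympForm m F) f₁ f₂ e P) :
    Cfsg.Geo.IsMaximalIn (Cfsg.spGL m F) (Cfsg.Geo.tensorProductSubgroup 2 n₂ e P ⊓ Cfsg.spGL m F) := by
  classical
  have h2 : (2 : F) ≠ 0 := by
    intro h
    have h3 : ringChar F = 2 := by
      have h4 : ringChar F ∣ 2 := (ringChar.spec F 2).mp (by exact_mod_cast h)
      rcases (Nat.dvd_prime Nat.prime_two).mp h4 with h5 | h5
      · exact absurd h5 (CharP.ringChar_ne_one)
      · exact h5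
    have := FiniteField.even_card_of_char_two h3
    rw [Nat.odd_iff] at hodd
    omega
  obtain ⟨c, hc, hform⟩ := Cfsg.Agent.H883.Tensor.form_pure hf₁.bilinear hf₂.bilinear hT
  set Φ := Cfsg.Agent.H883.Tensor.vec e P with hΦ
  have hm : 1 ≤ m := by
    have := Fintype.card_congr e
    simp only [Fintype.card_sum, Fintype.card_fin, Fintype.card_prod] at this
    omega
  -- the set-up
  set f : (Fin 2 × Fin n₂ → F) → (Fin 2 × Fin n₂ → F) → F := fun x y => sympForm m F (Φ x) (Φ y) with hf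
  have hsf : IsSymplecticForm (sympForm m F) := Cfsg.Agent.H924.isSymplecticForm_sympForm
  have T : Tens f₁ (fun x => c / 2 * f₂ x x) (fun x y => c * f₂ x y) f :=
    { sym := hf₁
      qf :=
        { smul := fun a v => by
            simp only [hf₂.bilinear.smul_left, hf₂.bilinear.smul_right]; ring
          add := fun x y => by
            simp only [hf₂.bilinear.add_left, hf₂.bilinear.add_right, hf₂.symm y x]
            field_simp
            ring
          add_left := fun x y v => by simp only [hf₂.bilinear.add_left]; ring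
          smul_left := fun a x v => by simp only [hf₂.bilinear.smul_left]; ring }
      nd := fun x hx => by
        obtain ⟨y, hy⟩ := (hf₂.nondegenerate x hx).2
        exact ⟨y, mul_ne_zero hc hy⟩
      two := h2
      bil :=
        { add_left := fun x y v => by simp only [hf, map_add, hsf.bilinear.add_left]
          smul_left := fun a x v => by simp only [hf, map_smul, hsf.bilinear.smul_left]
          add_right := fun v x y => by simp only [hf, map_add, hsf.bilinear.add_right]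
          smul_right := fun a v x => by simp only [hf, map_smul, hsf.bilinear.smul_right] }
      ten := fun u w u' w' => by
        have := hform u u' w w'
        show sympForm m F (Φ (ten u w)) (Φ (ten u' w')) = f₁ u u' * (c * f₂ w w')
        rw [show sympForm m F (Φ (ten u w)) (Φ (ten u' w')) = c * (f₁ u u' * f₂ w w') from this]
        ring }
  refine Cfsg.Agent.H875.isMaximalIn_of _ ?_ ?_
  · have h3 := Cfsg.Agent.H931.spGL_not_le_tensorProductSubgroup (F := F) hm (le_refl 2) (by omega : 2 ≤ n₂) e P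
    obtain ⟨g, hg, hg'⟩ := SetLike.not_le_iff_exists.mp h3
    rw [← Cfsg.Agent.H875.toGL_range] at hg
    obtain ⟨g₀, rfl⟩ := hg
    exact ⟨g₀, hg'⟩
  intro M₀ hKM hprop
  set M : Subgroup (GL (Fin 2 × Fin n₂) F) := (M₀.map (Cfsg.Agent.H875.toGL m F)).comap (theta e P).toMonoidHom
    with hM
  have hG : Grp f₁ (fun x y => c * f₂ x y) f M :=
    { iso := by
        intro g hg v w
        obtain ⟨g₀, hg₀, hgg⟩ := hg
        have h4 := Cfsg.Agent.H875.toGL_mem_spGL (m := m) (F := F) g₀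
        rw [hgg, Cfsg.Agent.H875.mem_spGL_iff] at h4
        have h5 := h4 (Φ v) (Φ w)
        show sympForm m F (Φ ((g : Matrix _ _ F) *ᵥ v)) (Φ ((g : Matrix _ _ F) *ᵥ w)) = sympForm m F (Φ v) (Φ w)
        rw [hΦ, ← theta_vec, ← theta_vec]
        exact h5
      mem := by
        intro a b μ hμ ha hb
        -- the element is an isometry
        have h4 : theta e P (kr (a, b)) ∈ spGL m F := by
          rw [Cfsg.Agent.H875.mem_spGL_iff]
          have h5 : ∀ x y, f ((kr (a, b) : Matrix (Fin 2 × Fin n₂) (Fin 2 × Fin n₂) F) *ᵥ x)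
              ((kr (a, b) : Matrix (Fin 2 × Fin n₂) (Fin 2 × Fin n₂) F) *ᵥ y) = f x y := by
            have hpt : ∀ x u' w', f ((kr (a, b) : Matrix (Fin 2 × Fin n₂) (Fin 2 × Fin n₂) F) *ᵥ x)
                ((kr (a, b) : Matrix (Fin 2 × Fin n₂) (Fin 2 × Fin n₂) F) *ᵥ ten u' w') = f x (ten u' w') := by
              intro x u' w'
              let L1 : (Fin 2 × Fin n₂ → F) →ₗ[F] F :=
                { toFun := fun x => f ((kr (a, b) : Matrix (Fin 2 × Fin n₂) (Fin 2 × Fin n₂) F) *ᵥ x)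
                    ((kr (a, b) : Matrix (Fin 2 × Fin n₂) (Fin 2 × Fin n₂) F) *ᵥ ten u' w')
                  map_add' := fun x y => by rw [Matrix.mulVec_add, T.bil.add_left]
                  map_smul' := fun r x => by rw [Matrix.mulVec_smul, T.bil.smul_left]; rfl }
              let L2 : (Fin 2 × Fin n₂ → F) →ₗ[F] F :=
                { toFun := fun x => f x (ten u' w')
                  map_add' := fun x y => by rw [T.bil.add_left]
                  map_smul' := fun r x => by rw [T.bil.smul_left]; rfl }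
              have h6 : L1 = L2 := by
                apply linearMap_ext_ten
                intro u w
                show f ((kr (a, b) : Matrix (Fin 2 × Fin n₂) (Fin 2 × Fin n₂) F) *ᵥ ten u w)
                    ((kr (a, b) : Matrix (Fin 2 × Fin n₂) (Fin 2 × Fin n₂) F) *ᵥ ten u' w') = f (ten u w) (ten u' w')
                rw [kr_mulVec_ten, kr_mulVec_ten, T.ten, T.ten, ha, hb]
                field_simp
              exact congrArg (fun X : (Fin 2 × Fin n₂ → F) →ₗ[F] F => X x) h6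
            intro x y
            let L1 : (Fin 2 × Fin n₂ → F) →ₗ[F] F :=
              { toFun := fun y => f ((kr (a, b) : Matrix (Fin 2 × Fin n₂) (Fin 2 × Fin n₂) F) *ᵥ x)
                  ((kr (a, b) : Matrix (Fin 2 × Fin n₂) (Fin 2 × Fin n₂) F) *ᵥ y)
                map_add' := fun x y => by rw [Matrix.mulVec_add, T.bil.add_right]
                map_smul' := fun r x => by rw [Matrix.mulVec_smul, T.bil.smul_right]; rfl }
            let L2 : (Fin 2 × Fin n₂ → F) →ₗ[F] F :=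
              { toFun := fun y => f x y
                map_add' := fun x y => by rw [T.bil.add_right]
                map_smul' := fun r x => by rw [T.bil.smul_right]; rfl }
            have h6 : L1 = L2 := by
              apply linearMap_ext_ten
              intro u w
              exact hpt x u w
            exact congrArg (fun X : (Fin 2 × Fin n₂ → F) →ₗ[F] F => X y) h6
          intro u v
          have h6 := h5 (Φ.symm u) (Φ.symm v)
          have h7 : ∀ z, Φ ((kr (a, b) : Matrix (Fin 2 × Fin n₂) (Fin 2 × Fin n₂) F) *ᵥ (Φ.symm z)) =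
              (theta e P (kr (a, b)) : Matrix _ _ F) *ᵥ z := by
            intro z
            rw [hΦ, ← theta_vec, LinearEquiv.apply_symm_apply]
          have h8 : sympForm m F (Φ ((kr (a, b) : Matrix (Fin 2 × Fin n₂) (Fin 2 × Fin n₂) F) *ᵥ (Φ.symm u)))
              (Φ ((kr (a, b) : Matrix (Fin 2 × Fin n₂) (Fin 2 × Fin n₂) F) *ᵥ (Φ.symm v))) =
              sympForm m F (Φ (Φ.symm u)) (Φ (Φ.symm v)) := h6
          rw [h7, h7, LinearEquiv.apply_symm_apply, LinearEquiv.apply_symm_apply] at h8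
          exact h8
        rw [← Cfsg.Agent.H875.toGL_range] at h4
        obtain ⟨g₀, hg₀⟩ := h4
        refine ⟨g₀, hKM ?_, hg₀⟩
        show Cfsg.Agent.H875.toGL m F g₀ ∈ tensorProductSubgroup 2 n₂ e P
        rw [hg₀]
        exact theta_kr_mem e P (a, b) }
  rcases T.dichotomy (by rw [Fintype.card_fin]; exact hn₂) hG with htr | htens
  · -- transvections
    have hfull : ∀ (u : Fin 2 → F) (s : Fin n₂ → F), (c / 2 * f₂ s s = 0) →
        Cfsg.Agent.H875.Full M₀ (Φ (ten u s)) := by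
      intro u s hs d
      obtain ⟨g', ⟨g₀, hg₀, hgg⟩, hact⟩ := htr d u s hs
      have h4 : g₀ = Cfsg.Agent.ClassicalGeometry.SympBasic.transv (Φ (ten u s)) d := by
        apply Subtype.ext
        apply Matrix.ext_of_mulVec_single
        intro i
        rw [Cfsg.Agent.ClassicalGeometry.SympBasic.coe_transv,
          Cfsg.Agent.ClassicalGeometry.SympBasic.sympTransvection_mulVec]
        have h5 : (g₀ : Matrix (Fin m ⊕ Fin m) (Fin m ⊕ Fin m) F) =
            (theta e P g' : Matrix (Fin m ⊕ Fin m) (Fin m ⊕ Fin m) F) := by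
          rw [← Cfsg.Agent.H875.coe_toGL, hgg]; rfl
        rw [h5]
        have h6 := theta_vec e P g' (Φ.symm (Pi.single i 1))
        rw [hact, ← hΦ, LinearEquiv.apply_symm_apply, map_add, map_smul, LinearEquiv.apply_symm_apply] at h6
        rw [h6]
        show _ + (d * sympForm m F (Φ (Φ.symm (Pi.single i 1))) (Φ (ten u s))) • _ = _
        rw [LinearEquiv.apply_symm_apply]
      rw [← h4]
      exact hg₀
    apply Cfsg.Agent.H875.eq_top_of_full
    have hβ3 : 3 ≤ Fintype.card (Fin n₂) := by rw [Fintype.card_fin]; omega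
    have hnd : ∀ x ∈ (⊤ : Submodule F (Fin n₂ → F)), x ≠ 0 →
        ∃ y ∈ (⊤ : Submodule F (Fin n₂ → F)), c * f₂ x y ≠ 0 :=
      fun x _ hx => by obtain ⟨y, hy⟩ := T.nd x hx; exact ⟨y, trivial, hy⟩
    obtain ⟨a₀, -, ha₀, hQa₀⟩ := T.qf.exists_singular h2 ⊤ hnd (by
      rw [finrank_top, Module.finrank_fintype_fun_eq_card, Fintype.card_fin]; omega)
    set X : Set (Fin m ⊕ Fin m → F) := {x | ∃ (u : Fin 2 → F) (s : Fin n₂ → F), u ≠ 0 ∧ s ≠ 0 ∧
      c / 2 * f₂ s s = 0 ∧ x = Φ (ten u s)} with hX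
    have hsp : ∀ v : Fin m ⊕ Fin m → F, v ≠ 0 → ∃ x ∈ X, sympForm m F v x ≠ 0 := by
      intro v hv
      set v' := Φ.symm v with hv'
      have hv'0 : v' ≠ 0 := by
        intro h
        apply hv
        have := congrArg Φ h
        rwa [hv', LinearEquiv.apply_symm_apply, map_zero] at this
      obtain ⟨⟨i, j⟩, hij⟩ := Function.ne_iff.mp hv'0
      have hrow : (fun j => v' (i, j)) ≠ 0 := fun h => hij (congrFun h j)
      obtain ⟨s, -, hQs, hs⟩ := T.qf.exists_singular_not_orth ⊤ hnd (a := a₀) trivial ha₀ hQa₀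
        (x := fun j => v' (i, j)) trivial hrow
      have hR : R (fun x y => c * f₂ x y) s v' ≠ 0 := by
        intro h
        have h4 := congrFun h i
        rw [T.R_coord] at h4
        apply hs
        have h5 := T.qf.comm (fun j => v' (i, j)) s
        rw [h5]
        exact h4
      obtain ⟨u, hu⟩ := (T.sym.nondegenerate _ hR).2
      have hu0 : u ≠ 0 := by
        rintro rfl
        apply hu
        have := T.sym.bilinear.smul_right 0 (R (fun x y => c * f₂ x y) s v') 0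
        simpa using this
      have hs0 : s ≠ 0 := by
        rintro rfl
        apply hs
        exact T.qf.zero_right _
      refine ⟨Φ (ten u s), ⟨u, s, hu0, hs0, hQs, rfl⟩, ?_⟩
      rw [← T.form_R] at hu
      have h6 : f v' (ten u s) = sympForm m F v (Φ (ten u s)) := by
        show sympForm m F (Φ v') (Φ (ten u s)) = _
        rw [hv', LinearEquiv.apply_symm_apply]
      rwa [h6] at hu
    refine Cfsg.Agent.H875.full_of_connected (M := M₀) ⟨1, one_ne_zero, ?_⟩ X ?_ hsp ?_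
    · intro h
      apply h2
      linear_combination h
    · rintro x ⟨u, s, -, -, hs, rfl⟩
      exact hfull u s hs
    · intro W hW0 hW1
      by_contra hcon
      push Not at hcon
      -- either `x ∈ W` or `x ⟂ W`
      have hdich : ∀ x ∈ X, x ∈ W ∨ ∀ w ∈ W, sympForm m F w x = 0 := by
        intro x hx
        by_cases h : x ∈ W
        · exact Or.inl h
        · exact Or.inr (hcon x hx h)
      by_cases hex : ∃ (u : Fin 2 → F) (s : Fin n₂ → F), u ≠ 0 ∧ s ≠ 0 ∧ c / 2 * f₂ s s = 0 ∧ Φ (ten u s) ∈ W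
      · obtain ⟨u, s, hu, hs, hQs, hin⟩ := hex
        have hall : ∀ x ∈ X, x ∈ W := by
          rintro x ⟨u', s', hu', hs', hQs', rfl⟩
          refine T.conn hβ3 (fun u s => Φ (ten u s) ∈ W) ?_ hu hs hQs hin hu' hs' hQs'
          intro u s u' t hQs hQt hin huu hst
          have hu'0 : u' ≠ 0 := by
            rintro rfl
            apply huu
            have := T.sym.bilinear.smul_right 0 u 0
            simpa using this
          have ht0 : t ≠ 0 := by
            rintro rfl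
            exact hst (T.qf.zero_right _)
          rcases hdich _ ⟨u', t, hu'0, ht0, hQt, rfl⟩ with h | h
          · exact h
          · exfalso
            have h4 := h _ hin
            have h5 : sympForm m F (Φ (ten u s)) (Φ (ten u' t)) = f₁ u u' * (c * f₂ s t) := T.ten u s u' t
            rw [h5] at h4
            exact mul_ne_zero huu hst h4
        -- W is everything
        apply hW1
        by_contra hWt
        have h4 := Cfsg.Agent.H924.finrank_perpOf Cfsg.Agent.H924.hermForm_sympForm W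
        have h5 : Cfsg.Agent.H924.perpOf Cfsg.Agent.H924.hermForm_sympForm W ≠ ⊥ := by
          intro h
          rw [h, finrank_bot] at h4
          have h6 := Submodule.finrank_lt hWt
          rw [Module.finrank_fintype_fun_eq_card] at h6
          omega
        obtain ⟨v, hv, hv0⟩ := (Submodule.ne_bot_iff _).mp h5
        obtain ⟨x, hx, hvx⟩ := hsp v hv0
        rw [Cfsg.Agent.H924.mem_perpOf] at hv
        exact hvx (hv x (hall x hx))
      · push Not at hex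
        apply hW0
        rw [Submodule.eq_bot_iff]
        intro w hw
        by_contra hw0
        obtain ⟨x, hx, hwx⟩ := hsp w hw0
        obtain ⟨u, s, hu, hs, hQs, rfl⟩ := hx
        rcases hdich _ ⟨u, s, hu, hs, hQs, rfl⟩ with h | h
        · exact hex u s hu hs hQs h
        · exact hwx (h w hw)
  · -- tensors
    exfalso
    obtain ⟨g, hg, hgK⟩ := hprop
    apply hgK
    have h4 : (theta e P).symm (Cfsg.Agent.H875.toGL m F g) ∈ M := by
      refine ⟨g, hg, ?_⟩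
      show _ = theta e P ((theta e P).symm _)
      rw [MulEquiv.apply_symm_apply]
    obtain ⟨x, hx⟩ := htens _ h4
    have h5 := theta_kr_mem e P x
    rw [hx, MulEquiv.apply_symm_apply] at h5
    exact h5

end Cfsg.Agent.H924.Ten
end
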